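import Cfsg.Agent.Helper12.BG56CSUP
import Cfsg.Agent.Helper12.BG56DER2
import Cfsg.Agent.Helper12.BG56RDVD
import Cfsg.Agent.Helper19.BG56CNORM
import Cfsg.Agent.Helper19.BG56SUPN
import Cfsg.Agent.Helper22.BG56EXC
import Cfsg.Agent.Helper22.BG56T2NIL
import Cfsg.Agent.Helper51.BG56CPC
import Cfsg.Agent.Helper51.BG56CPS
import Cfsg.Agent.Helper51.BG56DNORM
import Cfsg.Agent.Helper51.BG56FIT
import Cfsg.Agent.Helper51.BG56FPF
import Cfsg.Agent.Helper51.BG56LCOP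
import Cfsg.Agent.Helper51.BG56NSUP
import Cfsg.Agent.Helper51.BG56STAB
import Cfsg.Agent.Helper54.BG56CNIL
import Cfsg.Agent.Helper54.BG56FACT
import Cfsg.Agent.Helper54.BG56KNE
import Cfsg.Agent.Helper54.BG56KSIG
import Cfsg.Agent.Helper54.BG56MFB
import Cfsg.Agent.Helper54.BG56MFEQ
import Cfsg.Agent.Helper54.BG56T2K
import Cfsg.Agent.Helper99.BG56FROB
import Cfsg.Agent.Helper1.BGUniqA
import Cfsg.Agent.Helper25.CN3
import Cfsg.Agent.Helper23.Trans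
import Cfsg.Agent.Helper50.BG14SET1
import Cfsg.Agent.S1351
import Cfsg.Agent.S1352
import Cfsg.Agent.S1355
import Cfsg.Agent.S1365
import Cfsg.Agent.S1420
import Cfsg.Agent.S1438
import Cfsg.Agent.S1439

/-!
# helper99: S1356 (B&G Theorem 15.2(c)) — assembly from the pieces of CALL S1356
-/

set_option autoImplicit false

namespace Cfsg.Agent.Helper99

open Cfsg Subgroup

universe u

variable {G : Type u} [Group G] [Finite G]

/-- The conclusion of row S1437 for `M K U`. -/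
def BG56C37 (M K U : Subgroup G) : Prop :=
  U = ⊥ ∧ Cfsg.sigmaCore M = ⁅M, M⁆ ∧ (Nat.card K).Prime ∧ (Nat.card ↥(Cfsg.sigmaCore M ⊓ Subgroup.centralizer (K : Set G))).Prime ∧
      Nat.card ↥(Cfsg.sigmaCore M ⊓ Subgroup.centralizer (K : Set G)) ∣ Nat.card (Cfsg.fittingHallOf M) ∧ Nat.card ↥(Cfsg.sigmaCore M ⊓ Subgroup.centralizer (K : Set G)) ∈ Cfsg.beta M ∧
      ∃ Q : Subgroup G, Q ≤ Cfsg.fittingHallOf M ∧ M ≤ Subgroup.normalizer (Q : Set G) ∧ IsPGroup (Nat.card ↥(Cfsg.sigmaCore M ⊓ Subgroup.centralizer (K : Set G))) Q ∧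
        ¬ Nat.card ↥(Cfsg.sigmaCore M ⊓ Subgroup.centralizer (K : Set G)) ∣ Q.relIndex (Cfsg.sigmaCore M) ∧
        ∀ D : Subgroup G, Cfsg.IsComplIn Q D (Cfsg.sigmaCore M) →
          Group.IsNilpotent D ∧ M ≤ Subgroup.normalizer ((Q ⊓ Subgroup.centralizer (D : Set G) : Subgroup G) : Set G) ∧
          Q ⊓ Subgroup.centralizer (D : Set G) < Q ∧
          Nat.card Q = Nat.card ↥(Q ⊓ Subgroup.centralizer (D : Set G)) * Nat.card ↥(Cfsg.sigmaCore M ⊓ Subgroup.centralizer (K : Set G)) ^ Nat.card K ∧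
          (∀ a ∈ Q, ∀ b ∈ Q, a ^ Nat.card ↥(Cfsg.sigmaCore M ⊓ Subgroup.centralizer (K : Set G)) ∈ Q ⊓ Subgroup.centralizer (D : Set G) ∧
            a * b * a⁻¹ * b⁻¹ ∈ Q ⊓ Subgroup.centralizer (D : Set G)) ∧
          ∀ N : Subgroup G, Q ⊓ Subgroup.centralizer (D : Set G) < N → N < Q → ¬ M ≤ Subgroup.normalizer (N : Set G)

/-- `C_M(M_F) ≤ F(M)`. -/
theorem bg56_cent_le (hG : IsMinSimpleOddOrder G) {M : Subgroup G} (hM : IsCoatom M) :
    M ⊓ centralizer (fittingHallOf M : Set G) ≤ fittingOf M := by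
  obtain ⟨hMF1, hMFσ, hσM', hM'M, hnil⟩ := Cfsg.Agent.S1355.result hG M hM
  obtain ⟨hMFM, hMFn, hMFnil, hMFcop, hMFcop'⟩ := Cfsg.Agent.Helper54.bg56_MF_basic M
  have hσM : sigmaCore M ≤ M := Subgroup.map_subtype_le _
  obtain ⟨⟨X, hXc, hXτ, hXeq⟩, -⟩ := Cfsg.Agent.S1438.result hG M hM (fittingHallOf M) hMFσ hMF1
    (hMFcop' (sigmaCore M) hσM hMFσ)
  have hCn : M ≤ normalizer ((M ⊓ centralizer (fittingHallOf M : Set G) : Subgroup G) : Set G) :=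
    Cfsg.Agent.Helper19.bg56_cent_norm hMFn
  apply Cfsg.Agent.Helper1.bgu_le_fittingOf inf_le_left hCn
  by_cases hX1 : X = ⊥
  · rw [hXeq, hX1, sup_bot_eq]
    exact Cfsg.Agent.Helper54.bg56_cent_nil hnil (le_trans inf_le_left hσM') inf_le_right
  · have hcard : Nat.card X ≠ 1 := fun h => hX1 (Subgroup.eq_bot_of_card_eq X h)
    obtain ⟨p, hp, hpX⟩ := Nat.exists_prime_and_dvd hcard
    have hσnil := Cfsg.Agent.Helper22.bg56_tau2_nil hG hM (hXτ p hp hpX)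
    have hMFeq := Cfsg.Agent.Helper54.bg56_MF_eq hG hM hσnil
    have hXle : X ≤ M ⊓ centralizer (fittingHallOf M : Set G) := by
      rw [hXeq]; exact le_sup_right
    rw [hXeq]
    refine Cfsg.Agent.Helper19.bg56_sup_nil ?_ hXc ?_
    · intro a ha b hb
      have hb' : b ∈ fittingHallOf M := by rw [hMFeq]; exact hb.1
      exact ((Subgroup.mem_centralizer_iff.1 ha.2) b hb').symm
    · intro x hx
      rw [Subgroup.mem_centralizer_iff]
      intro h hh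
      have hh' : h ∈ fittingHallOf M := by rw [hMFeq]; exact hh.1
      exact (Subgroup.mem_centralizer_iff.1 (hXle hx).2) h hh'

/-- Part (2): `F(M) = C_M(M_F) M_F`. -/
theorem bg56_part2 (hG : IsMinSimpleOddOrder G) {M : Subgroup G} (hM : IsCoatom M) :
    fittingOf M = (M ⊓ centralizer (fittingHallOf M : Set G)) ⊔ fittingHallOf M := by
  obtain ⟨hMFM, hMFn, hMFnil, hMFcop, -⟩ := Cfsg.Agent.Helper54.bg56_MF_basic M
  have hMFF : fittingHallOf M ≤ fittingOf M :=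
    Cfsg.Agent.Helper1.bgu_le_fittingOf hMFM hMFn hMFnil
  apply le_antisymm
  · exact Cfsg.Agent.Helper51.bg56_fit_le hMFF (Cfsg.Agent.Helper1.bgu_fittingOf_le M) hMFn
      (Cfsg.Agent.Helper1.bgu_fittingOf_isNilpotent M) hMFcop
  · exact sup_le (bg56_cent_le hG hM) hMFF

/-- Part (3): `F(M) ≤ M'` when `κ(M) ≠ ∅`. -/
theorem bg56_part3 (hG : IsMinSimpleOddOrder G) {M : Subgroup G} (hM : IsCoatom M)
    (hne : (kappa M).Nonempty) : fittingOf M ≤ ⁅M, M⁆ := by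
  obtain ⟨hMF1, hMFσ, hσM', hM'M, hnil⟩ := Cfsg.Agent.S1355.result hG M hM
  obtain ⟨⟨K, hK⟩, hcyc⟩ := Cfsg.Agent.S1351.result hG M hM
  have hKc := hcyc K hK
  obtain ⟨⟨U, hKU⟩, -⟩ := Cfsg.Agent.S1352.result hG M hM K hKc hK
  have hK1 := Cfsg.Agent.Helper54.bg56_K_ne_bot hne hK
  have hder := (Cfsg.Agent.S1365.result hG M hM K U hKU hK1).1
  obtain ⟨hYc, hYτ, hFeq⟩ := Cfsg.Agent.S1439.result hG M hM
  obtain ⟨hM'le, hM'n, -, -⟩ := Cfsg.Agent.Helper51.bg56_der_norm M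
  rw [hFeq]
  refine sup_le ?_ ?_
  · exact le_trans (Cfsg.Agent.Helper1.bgu_fittingOf_le _) hσM'
  · refine Cfsg.Agent.Helper51.bg56_le_of_coprime hM'le hM'n ?_ ?_
    · exact le_trans (Cfsg.Agent.Helper23.piCoreOf_le _ _) (Cfsg.Agent.Helper1.bgu_fittingOf_le M)
    · apply Nat.coprime_of_dvd
      intro p hp h1 h2
      have hτ := hYτ p hp h1
      have hκ : p ∈ kappa M :=
        hK.2.1 p hp (dvd_trans h2 (Cfsg.Agent.Helper12.bg56_relIndex_dvd hM'le hM'n hK.1 (Cfsg.Agent.Helper54.bg56_fact hKU hder)))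
      exact Cfsg.Agent.Helper54.bg56_tau2_not_kappa hτ hκ

/-- Part (1): `M'' ≤ F(M)`, given row S1437 for `M`. -/
theorem bg56_part1 (hG : IsMinSimpleOddOrder G) {M : Subgroup G} (hM : IsCoatom M)
    (h37 : ∀ K U : Subgroup G, IsSigmaDecomposition M K U → fittingHallOf M ≠ sigmaCore M →
      BG56C37 M K U) :
    ⁅⁅M, M⁆, ⁅M, M⁆⁆ ≤ fittingOf M := by
  obtain ⟨hMF1, hMFσ, hσM', hM'M, hnil⟩ := Cfsg.Agent.S1355.result hG M hM
  obtain ⟨hMFM, hMFn, hMFnil, hMFcop, -⟩ := Cfsg.Agent.Helper54.bg56_MF_basic M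
  have hMFF : fittingHallOf M ≤ fittingOf M :=
    Cfsg.Agent.Helper1.bgu_le_fittingOf hMFM hMFn hMFnil
  have hσM : sigmaCore M ≤ M := Subgroup.map_subtype_le _
  have hσn : M ≤ normalizer (sigmaCore M : Set G) :=
    Cfsg.Agent.Helper23.le_normalizer_piCoreOf (sigma M) M
  obtain ⟨⟨K, hK⟩, hcyc⟩ := Cfsg.Agent.S1351.result hG M hM
  have hKc := hcyc K hK
  obtain ⟨hM'le, hM'n, hM''le, hM''n⟩ := Cfsg.Agent.Helper51.bg56_der_norm M
  by_cases hne : fittingHallOf M = sigmaCore M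
  · -- `M_F = M_σ`
    obtain ⟨E, hE, -⟩ := Cfsg.Agent.Helper50.bg14_exists_compl hG hM hK
    have hab := (Cfsg.Agent.S1420.result hG M hM E hE).2.1
    have hsup : E ⊔ sigmaCore M = M := Cfsg.Agent.Helper51.bg56_compl_sup hE
    have h := Cfsg.Agent.Helper12.bg56_der2_le (E := E) (S := sigmaCore M) (le_trans hE.1 hσn) hab
    rw [hsup] at h
    exact le_trans h (hne ▸ hMFF)
  · -- `M_F ≠ M_σ`
    obtain ⟨⟨U, hKU⟩, -⟩ := Cfsg.Agent.S1352.result hG M hM K hKc hK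
    obtain ⟨hU, hσeq, hKp, hqp, hqMF, hqβ, Q, hQMF, hQn, hQ, hQi, hall⟩ := h37 K U hKU hne
    haveI : Fact (Nat.card ↥(sigmaCore M ⊓ centralizer (K : Set G))).Prime := ⟨hqp⟩
    have hsol : Group.IsSolvable ↥M := hG.2.2.2 M hM.1
    have hQσ : Q ≤ sigmaCore M := le_trans hQMF hMFσ
    have hqσ : Nat.card ↥(sigmaCore M ⊓ centralizer (K : Set G)) ∈ sigma M :=
      Cfsg.Agent.Helper23.mem_of_dvd_card_piCoreOf (sigma M) M hqp
        (Subgroup.card_dvd_of_le inf_le_left)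
    have hKq : ¬ Nat.card ↥(sigmaCore M ⊓ centralizer (K : Set G)) ∣ Nat.card K := by
      intro h
      have h2 := (Nat.prime_dvd_prime_iff_eq hqp hKp).1 h
      have hκ : Nat.card K ∈ kappa M := hK.2.1 _ hKp dvd_rfl
      exact hκ.2.2.1 (h2 ▸ hqσ)
    obtain ⟨D, hD, hKD⟩ := Cfsg.Agent.Helper22.bg56_exists_compl hqp hsol hσM hσn hQσ hQ hQi hK.1 hKq
    obtain ⟨hDnil, hQ₀n, hQ₀lt, hcard, hexp, -⟩ := hall D hD
    have hDσ : D ≤ sigmaCore M := hD.2.1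
    have hDq : ¬ Nat.card ↥(sigmaCore M ⊓ centralizer (K : Set G)) ∣ Nat.card D := by
      rw [← Cfsg.Agent.Helper51.bg56_card_compl hD]; exact hQi
    have hDDle : ⁅D, D⁆ ≤ D := (Cfsg.Agent.Helper51.bg56_der_norm D).1
    have hKD0 : K ⊓ D = ⊥ :=
      eq_bot_iff.2 (le_trans (inf_le_inf_left K hDσ) (le_of_eq (Cfsg.Agent.Helper54.bg56_K_inf_sigma hK)))
    have hDD : ⁅D, D⁆ ≤ centralizer (Q : Set G) := by
      by_cases hD1 : D = ⊥
      · have h0 : ⁅D, D⁆ = ⊥ := by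
          rw [eq_bot_iff]
          exact le_trans hDDle (le_of_eq hD1)
        rw [h0]; exact bot_le
      · refine Cfsg.Agent.Helper51.bg56_stable hqp hQ (inf_le_left : Q ⊓ centralizer (D : Set G) ≤ Q) ?_ ?_ ?_
        · intro h; exact hDq (dvd_trans h (Subgroup.card_dvd_of_le hDDle))
        · intro d hd
          rw [Subgroup.mem_centralizer_iff]
          intro z hz
          exact ((Subgroup.mem_centralizer_iff.1 (Subgroup.mem_inf.1 hz).2) d (hDDle hd)).symm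
        · exact Cfsg.Agent.Helper99.bg56_frob_section hqp hG.1 hsol (le_trans hQσ hσM) (le_trans hDσ hσM) hK.1 hQn
            hQ₀n rfl hQ hDq hD1 hKD hKp (fun h => hKq (h ▸ dvd_rfl)) hKD0
            (Cfsg.Agent.Helper51.bg56_fpf hD hQi rfl hqp hKp) hcard
    have hT : Group.IsNilpotent ↥(Q ⊔ ⁅D, D⁆) :=
      Cfsg.Agent.Helper51.bg56_nil_sup hQ.isNilpotent (Cfsg.Agent.Helper25.isNilpotent_of_le hDDle hDnil) hDD
    have hsup : Q ⊔ D = sigmaCore M := Cfsg.Agent.Helper51.bg56_compl_sup hD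
    have hle : ⁅sigmaCore M, sigmaCore M⁆ ≤ Q ⊔ ⁅D, D⁆ := by
      have h := Cfsg.Agent.Helper12.bg56_comm_le_sup (E := D) (S := Q) (le_trans (le_trans hDσ hσM) hQn)
      have e1 : D ⊔ Q = sigmaCore M := by rw [sup_comm]; exact hsup
      rw [e1] at h
      rw [sup_comm]; exact h
    have hM''nil : Group.IsNilpotent ↥⁅⁅M, M⁆, ⁅M, M⁆⁆ := by
      rw [← hσeq]
      exact Cfsg.Agent.Helper25.isNilpotent_of_le hle hT
    exact Cfsg.Agent.Helper1.bgu_le_fittingOf hM''le hM''n hM''nil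

/-- S1356, given row S1437 for `M`. -/
theorem bg56_main (hG : IsMinSimpleOddOrder G) {M : Subgroup G} (hM : IsCoatom M)
    (h37 : ∀ K U : Subgroup G, IsSigmaDecomposition M K U → fittingHallOf M ≠ sigmaCore M →
      BG56C37 M K U) :
    ⁅⁅M, M⁆, ⁅M, M⁆⁆ ≤ Cfsg.fittingOf M ∧
      Cfsg.fittingOf M = (M ⊓ Subgroup.centralizer (Cfsg.fittingHallOf M : Set G)) ⊔ Cfsg.fittingHallOf M ∧
      ((Cfsg.kappa M).Nonempty → Cfsg.fittingOf M ≤ ⁅M, M⁆) :=
  ⟨bg56_part1 hG hM h37, bg56_part2 hG hM, bg56_part3 hG hM⟩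

end Cfsg.Agent.Helper99
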