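import Mathlib
import Cfsg.Prelude.Def_LocalEven

set_option autoImplicit false
set_option linter.unusedSimpArgs false

namespace Cfsg.Agent.Helper99

open Cfsg
open scoped commutatorElement

/-! ### general lemmas on `pCore` and the normalizer form of `p`-stability -/

theorem nps_sSup_normal {G : Type*} [Group G] (Ns : Set (Subgroup G))
    (h : ∀ N ∈ Ns, N.Normal) : (sSup Ns).Normal := by
  constructor
  intro x hx g
  have : sSup Ns ≤ (sSup Ns).comap (MulAut.conj g).toMonoidHom := by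
    apply sSup_le
    intro N hN y hy
    rw [Subgroup.mem_comap]
    exact le_sSup hN ((h N hN).conj_mem y hy g)
  exact this hx

theorem nps_pCore_normal (p : ℕ) (G : Type*) [Group G] : (pCore p G).Normal :=
  nps_sSup_normal _ (fun _ hN => hN.1)

theorem nps_pCore_isPGroup (p : ℕ) [Fact p.Prime] (G : Type*) [Group G] [Finite G] :
    IsPGroup p (pCore p G) :=
  Sylow.sSup_of_normal _ (fun _ hH => hH.2) (fun _ hH => hH.1)

/-- elementwise quadratic action implies the subgroup-commutator form -/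
theorem nps_quad_of_commute {G : Type*} [Group G] (W : Subgroup G) (x : G)
    (h : ∀ w ∈ W, Commute x ⁅w, x⁆) :
    ⁅⁅W, Subgroup.zpowers x⁆, Subgroup.zpowers x⁆ = ⊥ := by
  let H : Subgroup G :=
    { carrier := {a | (∀ w ∈ W, Commute x ⁅w, a⁆) ∧ ∀ c, Commute x c → Commute a c}
      one_mem' := ⟨fun w _ => by simp, fun c _ => Commute.one_left c⟩
      mul_mem' := by
        rintro a b ⟨ha1, ha2⟩ ⟨hb1, hb2⟩
        refine ⟨fun w hw => ?_, fun c hc => (ha2 c hc).mul_left (hb2 c hc)⟩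
        have hc : Commute a ⁅w, b⁆ := ha2 _ (hb1 w hw)
        have e : ⁅w, a * b⁆ = ⁅w, a⁆ * ⁅w, b⁆ := by
          have e1 : ⁅w, a * b⁆ = ⁅w, a⁆ * (a * ⁅w, b⁆ * a⁻¹) := by
            simp only [commutatorElement_def]; group
          rw [e1, hc.eq, mul_inv_cancel_right]
        rw [e]
        exact (ha1 w hw).mul_right (hb1 w hw)
      inv_mem' := by
        rintro a ⟨ha1, ha2⟩
        refine ⟨fun w hw => ?_, fun c hc => (ha2 c hc).inv_left⟩
        have hc : Commute a ⁅w, a⁆ := ha2 _ (ha1 w hw)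
        have e : ⁅w, a⁻¹⁆ = ⁅w, a⁆⁻¹ := by
          have e1 : ⁅w, a⁻¹⁆ = a⁻¹ * ⁅w, a⁆⁻¹ * a := by
            simp only [commutatorElement_def]; group
          rw [e1, hc.inv_inv.eq, inv_mul_cancel_right]
        rw [e]
        exact (ha1 w hw).inv_right }
  have hxH : x ∈ H := ⟨h, fun c hc => hc⟩
  have hle : Subgroup.zpowers x ≤ H := Subgroup.zpowers_le.mpr hxH
  rw [Subgroup.commutator_eq_bot_iff_le_centralizer, Subgroup.commutator_le]
  intro w hw z hz
  rw [Subgroup.mem_centralizer_iff]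
  intro y hy
  exact ((hle hy).2 _ ((hle hz).1 w hw)).eq

/-- Unfolded consequence of the normalizer form of `p`-stability in a finite group. -/
theorem nps_exists_D {G : Type*} [Group G] [Finite G] (p : ℕ) [Fact p.Prime]
    (hst : IsNormalizerPStable p G) (P : Subgroup G) (hP : IsPGroup p P) (g : G)
    (hg : g ∈ Subgroup.normalizer (P : Set G))
    (hq : ⁅⁅P, Subgroup.zpowers g⁆, Subgroup.zpowers g⁆ = ⊥) :
    ∃ D : Subgroup G, g ∈ D ∧
      (∀ n ∈ Subgroup.normalizer (P : Set G), ∀ d ∈ D, n * d * n⁻¹ ∈ D) ∧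
      ∀ d ∈ D, ∃ k : ℕ, d ^ (p ^ k) ∈ Subgroup.centralizer (P : Set G) := by
  have h := hst P hP g hg hq
  have hnorm := nps_pCore_normal p (↥(Subgroup.normalizer (P : Set G)) ⧸
          (Subgroup.centralizer (P : Set G)).subgroupOf (Subgroup.normalizer (P : Set G)))
  have hpg := nps_pCore_isPGroup p (↥(Subgroup.normalizer (P : Set G)) ⧸
          (Subgroup.centralizer (P : Set G)).subgroupOf (Subgroup.normalizer (P : Set G)))
  refine ⟨((pCore p (↥(Subgroup.normalizer (P : Set G)) ⧸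
          (Subgroup.centralizer (P : Set G)).subgroupOf (Subgroup.normalizer (P : Set G)))).comap
      (QuotientGroup.mk' ((Subgroup.centralizer (P : Set G)).subgroupOf
        (Subgroup.normalizer (P : Set G))))).map (Subgroup.normalizer (P : Set G)).subtype,
    ?_, ?_, ?_⟩
  · exact ⟨⟨g, hg⟩, h, rfl⟩
  · rintro n hn _ ⟨d, hd, rfl⟩
    refine ⟨⟨n, hn⟩ * d * ⟨n, hn⟩⁻¹, ?_, rfl⟩
    have hd' : QuotientGroup.mk' ((Subgroup.centralizer (P : Set G)).subgroupOf
        (Subgroup.normalizer (P : Set G))) d ∈ pCore p _ := hd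
    change QuotientGroup.mk' ((Subgroup.centralizer (P : Set G)).subgroupOf
        (Subgroup.normalizer (P : Set G))) (⟨n, hn⟩ * d * ⟨n, hn⟩⁻¹) ∈ pCore p _
    rw [map_mul, map_mul, map_inv]
    exact hnorm.conj_mem _ hd' _
  · rintro _ ⟨d, hd, rfl⟩
    have hd' : QuotientGroup.mk' ((Subgroup.centralizer (P : Set G)).subgroupOf
        (Subgroup.normalizer (P : Set G))) d ∈ pCore p _ := hd
    obtain ⟨k, hk⟩ := hpg ⟨_, hd'⟩
    refine ⟨k, ?_⟩
    have h1 : (QuotientGroup.mk' ((Subgroup.centralizer (P : Set G)).subgroupOf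
        (Subgroup.normalizer (P : Set G))) d) ^ (p ^ k) = 1 := by
      have := congrArg Subtype.val hk
      simpa using this
    rw [← map_pow, QuotientGroup.mk'_apply, QuotientGroup.eq_one_iff] at h1
    exact h1

/-! ### the group `Qd(p)` -/

section Qd

variable (p : ℕ) [Fact p.Prime]

theorem qd_mem_iff (M : Matrix.SpecialLinearGroup (Fin 3) (ZMod p)) :
    M ∈ Cfsg.qd p ↔ M.1 2 0 = 0 ∧ M.1 2 1 = 0 ∧ M.1 2 2 = 1 := by
  constructor
  · intro h
    unfold Cfsg.qd at h
    induction h using Subgroup.closure_induction with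
    | mem x hx => exact hx
    | one => simp
    | mul x y _ _ hx hy =>
      obtain ⟨x0, x1, x2⟩ := hx
      obtain ⟨y0, y1, y2⟩ := hy
      simp [Matrix.SpecialLinearGroup.coe_mul, Matrix.mul_apply, Fin.sum_univ_three, x0, x1, x2,
        y0, y1, y2]
    | inv x _ hx =>
      obtain ⟨x0, x1, x2⟩ := hx
      have h1 : x.1 * (x⁻¹).1 = 1 := by
        rw [← Matrix.SpecialLinearGroup.coe_mul, mul_inv_cancel]; rfl
      have e0 := congrFun (congrFun h1 2) 0
      have e1 := congrFun (congrFun h1 2) 1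
      have e2 := congrFun (congrFun h1 2) 2
      simp only [Matrix.mul_apply, Fin.sum_univ_three, x0, x1, x2, zero_mul, one_mul, zero_add]
        at e0 e1 e2
      refine ⟨?_, ?_, ?_⟩
      · simpa using e0
      · simpa using e1
      · simpa using e2
  · intro h
    exact Subgroup.subset_closure h

/-- the element `[[a, b, s], [c, d, t], [0, 0, 1]]` of `Qd(p)` -/
def qdMk (a b c d s t : ZMod p) (h : a * d - b * c = 1) : ↥(Cfsg.qd p) :=
  ⟨⟨!![a, b, s; c, d, t; 0, 0, 1], by
      rw [Matrix.det_fin_three]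
      simp only [Matrix.of_apply, Matrix.cons_val', Matrix.cons_val_zero, Matrix.cons_val_one,
        Matrix.cons_val_two, Matrix.cons_val_fin_one, Matrix.head_cons, Matrix.tail_cons,
        Matrix.head_fin_const]
      simp
      linear_combination h⟩,
    (qd_mem_iff p _).2 ⟨by simp, by simp, by simp⟩⟩

theorem qdMk_congr {a b c d s t a' b' c' d' s' t' : ZMod p} (h : a * d - b * c = 1)
    (h' : a' * d' - b' * c' = 1) (e1 : a = a') (e2 : b = b') (e3 : c = c') (e4 : d = d')
    (e5 : s = s') (e6 : t = t') : qdMk p a b c d s t h = qdMk p a' b' c' d' s' t' h' := by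
  subst e1 e2 e3 e4 e5 e6
  rfl

theorem qdMk_mul (a b c d s t a' b' c' d' s' t' : ZMod p) (h : a * d - b * c = 1)
    (h' : a' * d' - b' * c' = 1) :
    qdMk p a b c d s t h * qdMk p a' b' c' d' s' t' h' =
      qdMk p (a * a' + b * c') (a * b' + b * d') (c * a' + d * c') (c * b' + d * d')
        (a * s' + b * t' + s) (c * s' + d * t' + t)
        (by linear_combination (a' * d' - b' * c') * h + h') := by
  apply Subtype.ext
  apply Subtype.ext
  change (qdMk p a b c d s t h).1.1 * (qdMk p a' b' c' d' s' t' h').1.1 = _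
  ext i j
  fin_cases i <;> fin_cases j <;>
    simp [qdMk, Matrix.mul_apply, Fin.sum_univ_three]

theorem qdMk_one : qdMk p 1 0 0 1 0 0 (by ring) = 1 := by
  apply Subtype.ext
  apply Subtype.ext
  ext i j
  fin_cases i <;> fin_cases j <;> simp [qdMk]

theorem qd_eq_mk (M : ↥(Cfsg.qd p)) :
    ∃ (a b c d s t : ZMod p) (h : a * d - b * c = 1), M = qdMk p a b c d s t h := by
  obtain ⟨h0, h1, h2⟩ := (qd_mem_iff p M.1).1 M.2
  have hdet := M.1.2
  rw [Matrix.det_fin_three, h0, h1, h2] at hdet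
  refine ⟨M.1.1 0 0, M.1.1 0 1, M.1.1 1 0, M.1.1 1 1, M.1.1 0 2, M.1.1 1 2, ?_, ?_⟩
  · linear_combination hdet
  · apply Subtype.ext
    apply Subtype.ext
    ext i j
    fin_cases i <;> fin_cases j <;> simp [qdMk, h0, h1, h2]

/-- the translation subgroup of `Qd(p)` -/
def qdW : Subgroup ↥(Cfsg.qd p) where
  carrier := {M | ∃ s t : ZMod p, M = qdMk p 1 0 0 1 s t (by ring)}
  one_mem' := ⟨0, 0, (qdMk_one p).symm⟩
  mul_mem' := by
    rintro _ _ ⟨s, t, rfl⟩ ⟨s', t', rfl⟩
    refine ⟨s' + s, t' + t, ?_⟩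
    rw [qdMk_mul]
    apply qdMk_congr <;> ring
  inv_mem' := by
    rintro _ ⟨s, t, rfl⟩
    refine ⟨-s, -t, ?_⟩
    apply inv_eq_of_mul_eq_one_right
    rw [qdMk_mul, ← qdMk_one]
    apply qdMk_congr <;> ring

theorem qdW_normal : (qdW p).Normal := by
  constructor
  rintro _ ⟨s, t, rfl⟩ g
  obtain ⟨a, b, c, d, u, v, h, rfl⟩ := qd_eq_mk p g
  have hinv : (qdMk p a b c d u v h)⁻¹ =
      qdMk p d (-b) (-c) a (-(d * u) + b * v) (c * u - a * v) (by linear_combination h) := by
    apply inv_eq_of_mul_eq_one_right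
    rw [qdMk_mul, ← qdMk_one]
    apply qdMk_congr
    · linear_combination h
    · ring
    · ring
    · linear_combination h
    · linear_combination (-u) * h
    · linear_combination (-v) * h
  rw [hinv, qdMk_mul, qdMk_mul]
  refine ⟨a * s + b * t, c * s + d * t, ?_⟩
  apply qdMk_congr
  · linear_combination h
  · ring
  · ring
  · linear_combination h
  · linear_combination (-u) * h
  · linear_combination (-v) * h

theorem qdW_pow (w : ↥(Cfsg.qd p)) (hw : w ∈ qdW p) : w ^ p = 1 := by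
  obtain ⟨s, t, rfl⟩ := hw
  have key : ∀ k : ℕ, (qdMk p 1 0 0 1 s t (by ring)) ^ k =
      qdMk p 1 0 0 1 (k * s) (k * t) (by ring) := by
    intro k
    induction k with
    | zero =>
      rw [pow_zero, ← qdMk_one]
      apply qdMk_congr <;> simp
    | succ k ih =>
      rw [pow_succ, ih, qdMk_mul]
      apply qdMk_congr <;> push_cast <;> ring
  rw [key, ← qdMk_one]
  apply qdMk_congr <;> simp

/-- the transvection -/
def qdX : ↥(Cfsg.qd p) := qdMk p 1 1 0 1 0 0 (by ring)

/-- the opposite transvection -/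
def qdY : ↥(Cfsg.qd p) := qdMk p 1 0 (-1) 1 0 0 (by ring)

/-- the Weyl element -/
def qdN : ↥(Cfsg.qd p) := qdMk p 0 1 (-1) 0 0 0 (by ring)

/-- a translation -/
def qdW0 : ↥(Cfsg.qd p) := qdMk p 1 0 0 1 1 0 (by ring)

theorem qdW0_mem : qdW0 p ∈ qdW p := ⟨1, 0, rfl⟩

theorem qd_F1 : qdY p * qdN p = qdN p * qdX p := by
  unfold qdX qdY qdN
  rw [qdMk_mul, qdMk_mul]
  apply qdMk_congr <;> ring

theorem qd_F2 : qdX p * qdY p * qdX p = qdN p := by
  unfold qdX qdY qdN
  rw [qdMk_mul, qdMk_mul]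
  apply qdMk_congr <;> ring

theorem qd_F3 : qdN p * qdN p * (qdN p * qdN p) = 1 := by
  unfold qdN
  rw [qdMk_mul, qdMk_mul, ← qdMk_one]
  apply qdMk_congr <;> ring

theorem qd_F4 (hp : p ≠ 2) : qdN p * qdN p * qdW0 p ≠ qdW0 p * (qdN p * qdN p) := by
  unfold qdN qdW0
  rw [qdMk_mul, qdMk_mul, qdMk_mul]
  intro h
  have h1 := congrArg (fun M : ↥(Cfsg.qd p) => M.1.1 0 2) h
  simp [qdMk] at h1
  have h2 : (2 : ZMod p) = 0 := by linear_combination -h1
  have h3 : ((2 : ℕ) : ZMod p) = 0 := by exact_mod_cast h2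
  rw [ZMod.natCast_eq_zero_iff] at h3
  have := (Nat.prime_dvd_prime_iff_eq (Fact.out : p.Prime) Nat.prime_two).1 h3
  exact hp this

theorem qd_quad (w : ↥(Cfsg.qd p)) (hw : w ∈ qdW p) : Commute (qdX p) ⁅w, qdX p⁆ := by
  obtain ⟨s, t, rfl⟩ := hw
  have hwi : (qdMk p 1 0 0 1 s t (by ring))⁻¹ = qdMk p 1 0 0 1 (-s) (-t) (by ring) := by
    apply inv_eq_of_mul_eq_one_right
    rw [qdMk_mul, ← qdMk_one]
    apply qdMk_congr <;> ring
  have hxi : (qdX p)⁻¹ = qdMk p 1 (-1) 0 1 0 0 (by ring) := by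
    apply inv_eq_of_mul_eq_one_right
    unfold qdX
    rw [qdMk_mul, ← qdMk_one]
    apply qdMk_congr <;> ring
  have hc : ⁅qdMk p 1 0 0 1 s t (by ring), qdX p⁆ = qdMk p 1 0 0 1 (-t) 0 (by ring) := by
    rw [commutatorElement_def, hwi, hxi]
    unfold qdX
    rw [qdMk_mul, qdMk_mul, qdMk_mul]
    apply qdMk_congr <;> ring
  rw [hc]
  change qdX p * _ = _ * qdX p
  unfold qdX
  rw [qdMk_mul, qdMk_mul]
  apply qdMk_congr <;> ring

/-- A group isomorphic to `Qd(p)`, `p` odd, is not `p`-stable in the normalizer form. -/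
theorem not_nps_of_equiv_qd (hp : p ≠ 2) {Q : Type*} [Group Q] [Finite Q]
    (e : Q ≃* ↥(Cfsg.qd p)) : ¬ Cfsg.IsNormalizerPStable p Q := by
  intro hst
  have hWn := qdW_normal p
  set P : Subgroup Q := (qdW p).comap e.toMonoidHom with hPdef
  have hPn : P.Normal := Subgroup.Normal.comap hWn _
  have hPp : IsPGroup p P := by
    rintro ⟨w, hw⟩
    refine ⟨1, ?_⟩
    apply Subtype.ext
    apply e.injective
    have := qdW_pow p (e w) hw
    simpa using this
  set g : Q := e.symm (qdX p) with hgdef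
  have hNtop : ∀ n : Q, n ∈ Subgroup.normalizer (P : Set Q) := by
    intro n
    rw [Subgroup.mem_normalizer_iff]
    intro h
    constructor
    · intro hh
      exact hPn.conj_mem h hh n
    · intro hh
      have := hPn.conj_mem _ hh n⁻¹
      simpa [mul_assoc] using this
  have heg : e g = qdX p := by simp [hgdef]
  have hq : ⁅⁅P, Subgroup.zpowers g⁆, Subgroup.zpowers g⁆ = ⊥ := by
    apply nps_quad_of_commute
    intro w hw
    have h1 := qd_quad p (e w) hw
    have h2 : e (g * ⁅w, g⁆) = e (⁅w, g⁆ * g) := by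
      rw [map_mul, map_mul, map_commutatorElement, heg]
      exact h1.eq
    exact e.injective h2
  obtain ⟨D, hgD, hDn, hDp⟩ := nps_exists_D p hst P hPp g (hNtop g) hq
  have hDn' : ∀ (n d : Q), d ∈ D → n * d * n⁻¹ ∈ D := fun n d hd => hDn n (hNtop n) d hd
  have hy : e.symm (qdY p) ∈ D := by
    have : e.symm (qdY p) = e.symm (qdN p) * g * (e.symm (qdN p))⁻¹ := by
      rw [eq_mul_inv_iff_mul_eq, hgdef, ← map_mul, ← map_mul, qd_F1]
    rw [this]
    exact hDn' _ _ hgD
  have hn : e.symm (qdN p) ∈ D := by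
    have : e.symm (qdN p) = g * e.symm (qdY p) * g := by
      rw [hgdef, ← map_mul, ← map_mul, qd_F2]
    rw [this]
    exact D.mul_mem (D.mul_mem hgD hy) hgD
  have hz : e.symm (qdN p * qdN p) ∈ D := by
    rw [map_mul]
    exact D.mul_mem hn hn
  obtain ⟨k, hk⟩ := hDp _ hz
  have hodd : p ^ k % 2 = 1 := by
    have h2 : p % 2 = 1 := by
      rcases (Fact.out : p.Prime).eq_two_or_odd with h | h
      · exact absurd h hp
      · exact h
    rw [Nat.pow_mod, h2, one_pow]
    rfl
  have hz2 : (e.symm (qdN p * qdN p)) ^ 2 = 1 := by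
    rw [← map_pow, pow_two, qd_F3, map_one]
  have hzk : (e.symm (qdN p * qdN p)) ^ (p ^ k) = e.symm (qdN p * qdN p) := by
    rw [pow_eq_pow_mod _ hz2, hodd, pow_one]
  rw [hzk] at hk
  have hw0 : e.symm (qdW0 p) ∈ P := by
    rw [hPdef, Subgroup.mem_comap]
    simpa using qdW0_mem p
  have h3 := (Subgroup.mem_centralizer_iff.mp hk) _ hw0
  rw [← map_mul, ← map_mul] at h3
  exact qd_F4 p hp (e.symm.injective h3).symm

end Qd

end Cfsg.Agent.Helper99
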