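import Cfsg.Agent.Helper99.SuIso
import Cfsg.Agent.Helper13.UnitGen
import Cfsg.Agent.Helper13.UnitTv2

set_option autoImplicit false

/-!
# Bridge between the antidiagonal model `suG hK n` and `Cfsg.SU n K q` (helper99)

* `su_exists_iso2`: a bijective hom `ψ : suG hK n →* SU n K q` intertwining the actions via a
  linear isometry `Φ`;
* `su_psi_tv`: `ψ` maps the Eichler element `E(v, 0, c)` to the unitary transvection `utv (Φ v) c`;
* `su_top_of_tv`: a subgroup of `suG hK n` containing all `E(v, 0, c)` is everything;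
* `su_transport_three`: three conjugate regular unipotents generating `suG hK n` give the same
  in `SU n K q`.
-/

namespace Cfsg.Agent.Helper99

open Matrix
open Cfsg.Agent.Helper5 (frobQ frobQ_apply frobQ_frobQ)

section SuTv

variable {K : Type*} [Field K] [Fintype K] {q : ℕ}

theorem su_exists_iso2 (hK : Fintype.card K = q ^ 2) (n : ℕ) :
    ∃ (Φ : (Fin n → K) ≃ₗ[K] (Fin n → K)) (ψ : ↥(suG hK n) →* ↥(Cfsg.SU n K q)),
      (∀ x y, Cfsg.hermForm n K q (Φ x) (Φ y) = suH hK n x y) ∧ Function.Bijective ψ ∧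
      ∀ (g : ↥(suG hK n)) (x : Fin n → K),
        (((ψ g : ↥(Cfsg.SU n K q)) : Matrix.SpecialLinearGroup (Fin n) K) :
          Matrix (Fin n) (Fin n) K) *ᵥ (Φ x) = Φ (suAct g x) := by
  obtain ⟨Φ, hΦ⟩ := su_exists_equiv (n := n) hK
  obtain ⟨ψ, hψ⟩ : ∃ ψ : ↥(suG hK n) →* ↥(Cfsg.SU n K q),
      ∀ g : ↥(suG hK n), ((ψ g : ↥(Cfsg.SU n K q)) : Matrix.SpecialLinearGroup (Fin n) K) =
        suIsoFun Φ (g : Matrix.SpecialLinearGroup (Fin n) K) :=
    ⟨{ toFun := fun g => ⟨suIsoFun Φ (g : Matrix.SpecialLinearGroup (Fin n) K),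
          suIsoFun_mem hK hΦ g.2⟩
       map_one' := by
        apply Subtype.ext
        have h := suIsoFun_symm' Φ (1 : Matrix.SpecialLinearGroup (Fin n) K)
        have h2 : suIsoFun Φ.symm (1 : Matrix.SpecialLinearGroup (Fin n) K) = 1 := by
          have h3 := suIsoFun_mul Φ.symm (1 : Matrix.SpecialLinearGroup (Fin n) K) 1
          rw [mul_one] at h3
          exact (mul_eq_left.mp h3.symm)
        rw [h2] at h
        exact h
       map_mul' := fun g h => Subtype.ext (suIsoFun_mul Φ _ _) }, fun g => rfl⟩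
  have hψinj : Function.Injective ψ := by
    intro g h hgh
    apply Subtype.ext
    have h1 := congrArg (fun x : ↥(Cfsg.SU n K q) =>
      suIsoFun Φ.symm (x : Matrix.SpecialLinearGroup (Fin n) K)) hgh
    beta_reduce at h1
    rw [hψ, hψ, suIsoFun_symm, suIsoFun_symm] at h1
    exact h1
  have hψsurj : Function.Surjective ψ := by
    intro h
    refine ⟨⟨suIsoFun Φ.symm (h : Matrix.SpecialLinearGroup (Fin n) K),
      suIsoFun_mem_symm hK hΦ h.2⟩, ?_⟩
    apply Subtype.ext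
    rw [hψ]
    exact suIsoFun_symm' Φ _
  refine ⟨Φ, ψ, hΦ, ⟨hψinj, hψsurj⟩, ?_⟩
  intro g x
  rw [hψ]
  have h3 := suIsoFun_mulVec Φ (g : Matrix.SpecialLinearGroup (Fin n) K) (Φ x)
  rw [LinearEquiv.symm_apply_apply] at h3
  exact h3

/-- `ψ` maps Eichler transvections to unitary transvections. -/
theorem su_psi_tv (hK : Fintype.card K = q ^ 2) (p : ℕ) [Fact p.Prime] [CharP K p] {n : ℕ}
    (Φ : (Fin n → K) ≃ₗ[K] (Fin n → K)) (ψ : ↥(suG hK n) →* ↥(Cfsg.SU n K q))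
    (hΦ : ∀ x y, Cfsg.hermForm n K q (Φ x) (Φ y) = suH hK n x y)
    (hψ : ∀ (g : ↥(suG hK n)) (x : Fin n → K),
        (((ψ g : ↥(Cfsg.SU n K q)) : Matrix.SpecialLinearGroup (Fin n) K) :
          Matrix (Fin n) (Fin n) K) *ᵥ (Φ x) = Φ (suAct g x))
    (v : Fin n → K) (c : K) (hv : suH hK n v v = 0) (hc : frobQ hK c = -c) :
    ψ (suEl hK v 0 c) = Cfsg.Agent.Helper13.utv hK (Φ v) c := by
  rw [Cfsg.Agent.Helper13.uact_eq_iff]
  intro y
  obtain ⟨x, rfl⟩ := Φ.surjective y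
  have hE : SuHE hK v 0 c := ⟨hv, suH_zero_left hK v, by rw [hc, suH_zero_left]; ring⟩
  rw [Cfsg.Agent.Helper13.uact_utv hK (Φ v) c (by rw [hΦ]; exact hv) hc]
  have e : Cfsg.Agent.Helper13.uact (ψ (suEl hK v 0 c)) (Φ x) = Φ (suAct (suEl hK v 0 c) x) :=
    hψ _ x
  rw [e, suAct_suEl hK p hE, hΦ]
  simp only [smul_zero, add_zero, suH_zero_right, zero_smul, sub_zero, map_add, map_smul]

/-- a subgroup of `suG hK n` containing all Eichler transvections is everything. -/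
theorem su_top_of_tv (hK : Fintype.card K = q ^ 2) (p : ℕ) [Fact p.Prime] [CharP K p] (n : ℕ)
    (hn : 3 ≤ n) (h32 : ¬ (n = 3 ∧ q = 2)) (H : Subgroup ↥(suG hK n))
    (hH : ∀ (v : Fin n → K) (c : K), suH hK n v v = 0 → frobQ hK c = -c → suEl hK v 0 c ∈ H) :
    H = ⊤ := by
  obtain ⟨Φ, ψ, hΦ, hψb, hψ⟩ := su_exists_iso2 hK n
  have hmap : H.map ψ = ⊤ := by
    rw [eq_top_iff, ← Cfsg.Agent.Helper13.su_eq_utT hK n hn h32]
    unfold Cfsg.Agent.Helper13.utT
    rw [Subgroup.closure_le]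
    intro A hA
    rcases Cfsg.Agent.Helper13.utGen_cases A hA with h | h
    · rw [h]
      exact Subgroup.one_mem _
    · obtain ⟨w, c, -, -, hw, hc, rfl⟩ := Cfsg.Agent.Helper13.su_rank_one hK A h
      have hw' : suH hK n (Φ.symm w) (Φ.symm w) = 0 := by
        rw [← hΦ, LinearEquiv.apply_symm_apply]
        exact hw
      refine ⟨suEl hK (Φ.symm w) 0 c, hH _ _ hw' hc, ?_⟩
      rw [su_psi_tv hK p Φ ψ hΦ hψ _ _ hw' hc, LinearEquiv.apply_symm_apply]
  rw [eq_top_iff]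
  intro g _
  have hg : ψ g ∈ H.map ψ := by
    rw [hmap]
    trivial
  obtain ⟨g', hg', e⟩ := hg
  rw [← hψb.1 e]
  exact hg'

theorem su_pow_transport {n : ℕ} (Φ : (Fin n → K) ≃ₗ[K] (Fin n → K))
    (M M' : Matrix (Fin n) (Fin n) K) (hM : ∀ x, M' *ᵥ (Φ x) = Φ (M *ᵥ x)) (k : ℕ) :
    ∀ x, (M' - 1) ^ k *ᵥ (Φ x) = Φ ((M - 1) ^ k *ᵥ x) := by
  induction k with
  | zero =>
    intro x
    rw [pow_zero, pow_zero, Matrix.one_mulVec, Matrix.one_mulVec]
  | succ k ih =>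
    intro x
    rw [pow_succ', ← Matrix.mulVec_mulVec, ih, Matrix.sub_mulVec, Matrix.one_mulVec, hM,
      ← map_sub, pow_succ', ← Matrix.mulVec_mulVec, Matrix.sub_mulVec, Matrix.one_mulVec]

theorem su_pow_zero_iff {n : ℕ} (Φ : (Fin n → K) ≃ₗ[K] (Fin n → K))
    (M M' : Matrix (Fin n) (Fin n) K) (hM : ∀ x, M' *ᵥ (Φ x) = Φ (M *ᵥ x)) (k : ℕ) :
    (M' - 1) ^ k = 0 ↔ (M - 1) ^ k = 0 := by
  constructor
  · intro h
    apply Matrix.mulVec_injective
    funext x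
    apply Φ.injective
    rw [← su_pow_transport Φ M M' hM, h, Matrix.zero_mulVec, Matrix.zero_mulVec, map_zero]
  · intro h
    apply Matrix.mulVec_injective
    funext y
    obtain ⟨x, rfl⟩ := Φ.surjective y
    rw [su_pow_transport Φ M M' hM, h, Matrix.zero_mulVec, map_zero, Matrix.zero_mulVec]

/-- transport of `three conjugate regular unipotents generate` from `suG hK n` to `SU n K q`. -/
theorem su_transport_three (hK : Fintype.card K = q ^ 2) (n : ℕ) (u g h : ↥(suG hK n))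
    (hnil : IsNilpotent
      (((u : Matrix.SpecialLinearGroup (Fin n) K) : Matrix (Fin n) (Fin n) K) - 1))
    (hreg : (((u : Matrix.SpecialLinearGroup (Fin n) K) : Matrix (Fin n) (Fin n) K) - 1) ^ (n - 1)
      ≠ 0)
    (hgen : Subgroup.closure ({u, g * u * g⁻¹, h * u * h⁻¹} : Set ↥(suG hK n)) = ⊤) :
    ∃ u' g' h' : ↥(Cfsg.SU n K q),
      (IsNilpotent
          (((u' : Matrix.SpecialLinearGroup (Fin n) K) : Matrix (Fin n) (Fin n) K) - 1) ∧
        (((u' : Matrix.SpecialLinearGroup (Fin n) K) : Matrix (Fin n) (Fin n) K) - 1) ^ (n - 1)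
          ≠ 0) ∧
      Subgroup.closure ({u', g' * u' * g'⁻¹, h' * u' * h'⁻¹} : Set ↥(Cfsg.SU n K q)) = ⊤ := by
  obtain ⟨Φ, ψ, -, hψb, hψ⟩ := su_exists_iso2 hK n
  have hM : ∀ x, (((ψ u : ↥(Cfsg.SU n K q)) : Matrix.SpecialLinearGroup (Fin n) K) :
      Matrix (Fin n) (Fin n) K) *ᵥ (Φ x) =
      Φ (((u : Matrix.SpecialLinearGroup (Fin n) K) : Matrix (Fin n) (Fin n) K) *ᵥ x) :=
    fun x => hψ u x
  refine ⟨ψ u, ψ g, ψ h, ⟨?_, ?_⟩, ?_⟩
  · obtain ⟨k, hk⟩ := hnil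
    exact ⟨k, (su_pow_zero_iff Φ _ _ hM k).2 hk⟩
  · intro h0
    exact hreg ((su_pow_zero_iff Φ _ _ hM (n - 1)).1 h0)
  · have h1 := MonoidHom.map_closure ψ
      ({u, g * u * g⁻¹, h * u * h⁻¹} : Set ↥(suG hK n))
    rw [hgen, ← MonoidHom.range_eq_map, MonoidHom.range_eq_top.2 hψb.2, Set.image_insert_eq,
      Set.image_pair, map_mul, map_mul, map_inv, map_mul, map_mul, map_inv] at h1
    exact h1.symm

end SuTv

end Cfsg.Agent.Helper99
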