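import Mathlib
import Cfsg.Agent.Helper94.S43Defs

/-!
# helper99: CALL S43 piece QRS (conjugating `qmat` by the middle `SL_2` of `Sp_4`)
-/

set_option autoImplicit false

namespace Cfsg.Agent.Helper99.S43QRS

open Matrix Cfsg.Agent.Helper71.T4 Cfsg.Agent.Helper94.S43
open Cfsg.Agent.Helper71.SO (bl ruw Nuw)
open scoped Kronecker

variable {F : Type*} [Field F]

/-- Blocks of a two-sided conjugate by Kronecker products `P ⊗ 1`, `P' ⊗ 1`. -/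
theorem qrs_bk_conj (P P' : Matrix (Fin 4) (Fin 4) F)
    (q : Matrix (Fin 4 × Fin 3) (Fin 4 × Fin 3) F) (i j : Fin 4) :
    bk ((P ⊗ₖ (1 : Matrix (Fin 3) (Fin 3) F)) * q * (P' ⊗ₖ (1 : Matrix (Fin 3) (Fin 3) F))) i j =
      ∑ a, ∑ b, (P i a * P' b j) • bk q a b := by
  rw [bk_mul]
  simp only [bk_mul, bk_kron, Finset.sum_mul, smul_mul_assoc, one_mul, mul_smul_comm, mul_one,
    Finset.smul_sum, smul_smul]
  rw [Finset.sum_comm]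
  refine Finset.sum_congr rfl fun a _ => Finset.sum_congr rfl fun b _ => ?_
  rw [mul_comm]

/-- The rotation `1 ⊕ [[0,-1],[1,0]] ⊕ 1`. -/
def qrsRot (F : Type*) [Field F] : Matrix (Fin 4) (Fin 4) F :=
  !![1, 0, 0, 0; 0, 0, -1, 0; 0, 1, 0, 0; 0, 0, 0, 1]

/-- Its inverse. -/
def qrsRot' (F : Type*) [Field F] : Matrix (Fin 4) (Fin 4) F :=
  !![1, 0, 0, 0; 0, 0, 1, 0; 0, -1, 0, 0; 0, 0, 0, 1]

/-- The shear `1 ⊕ [[1,s],[0,1]] ⊕ 1`. -/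
def qrsSh (s : F) : Matrix (Fin 4) (Fin 4) F :=
  !![1, 0, 0, 0; 0, 1, s, 0; 0, 0, 1, 0; 0, 0, 0, 1]

theorem qrsRot_J4 : (qrsRot F)ᵀ * J4 F * qrsRot F = J4 F := by
  ext i j
  fin_cases i <;> fin_cases j <;>
    simp [qrsRot, J4, Matrix.mul_apply, Fin.sum_univ_four]

theorem qrsRot'_J4 : (qrsRot' F)ᵀ * J4 F * qrsRot' F = J4 F := by
  ext i j
  fin_cases i <;> fin_cases j <;>
    simp [qrsRot', J4, Matrix.mul_apply, Fin.sum_univ_four]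

theorem qrsSh_J4 (s : F) : (qrsSh s)ᵀ * J4 F * qrsSh s = J4 F := by
  ext i j
  fin_cases i <;> fin_cases j <;>
    simp [qrsSh, J4, Matrix.mul_apply, Fin.sum_univ_four]

theorem qrs_inM (S : Matrix (Fin 3) (Fin 3) F) (M : Subgroup (GL (Fin 4 × Fin 3) F))
    (hH : HasH4 S M) (P : Matrix (Fin 4) (Fin 4) F) (hP : Pᵀ * J4 F * P = J4 F) :
    InM M (P ⊗ₖ (1 : Matrix (Fin 3) (Fin 3) F)) :=
  hH P 1 1 1 (by rw [one_smul]; exact hP)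
    (by rw [one_smul, transpose_one, one_mul, mul_one]) (mul_one 1)

theorem qrs_rot_eq (X₁ X₂ Z Y₁ Y₂ : Matrix (Fin 3) (Fin 3) F) :
    (qrsRot F ⊗ₖ (1 : Matrix (Fin 3) (Fin 3) F)) * qmat X₁ X₂ Z Y₁ Y₂ *
      (qrsRot' F ⊗ₖ (1 : Matrix (Fin 3) (Fin 3) F)) = qmat (-X₂) X₁ Z (-Y₂) Y₁ := by
  apply bk_ext
  intro i j
  rw [qrs_bk_conj]
  fin_cases i <;> fin_cases j <;>
    simp [Fin.sum_univ_four, qmat, bk_add, bk_one, bk_EK, qrsRot, qrsRot']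

theorem qrs_sh_eq (X₁ X₂ Z Y₁ Y₂ : Matrix (Fin 3) (Fin 3) F) (s : F) :
    (qrsSh s ⊗ₖ (1 : Matrix (Fin 3) (Fin 3) F)) * qmat X₁ X₂ Z Y₁ Y₂ *
      (qrsSh (-s) ⊗ₖ (1 : Matrix (Fin 3) (Fin 3) F)) =
      qmat X₁ (X₂ - s • X₁) Z (Y₁ + s • Y₂) Y₂ := by
  apply bk_ext
  intro i j
  rw [qrs_bk_conj]
  fin_cases i <;> fin_cases j <;>
    simp [Fin.sum_univ_four, qmat, bk_add, bk_one, bk_EK, qrsSh] <;> abel

theorem q_rot (S : Matrix (Fin 3) (Fin 3) F) (M : Subgroup (GL (Fin 4 × Fin 3) F))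
    (hH : HasH4 S M) (X₁ X₂ Z Y₁ Y₂ : Matrix (Fin 3) (Fin 3) F)
    (h : InM M (qmat X₁ X₂ Z Y₁ Y₂)) : InM M (qmat (-X₂) X₁ Z (-Y₂) Y₁) := by
  have h1 := ((qrs_inM S M hH _ qrsRot_J4).mul h).mul (qrs_inM S M hH _ qrsRot'_J4)
  rwa [qrs_rot_eq] at h1

theorem q_shear (S : Matrix (Fin 3) (Fin 3) F) (M : Subgroup (GL (Fin 4 × Fin 3) F))
    (hH : HasH4 S M) (X₁ X₂ Z Y₁ Y₂ : Matrix (Fin 3) (Fin 3) F)
    (h : InM M (qmat X₁ X₂ Z Y₁ Y₂)) (s : F) :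
    InM M (qmat X₁ (X₂ - s • X₁) Z (Y₁ + s • Y₂) Y₂) := by
  have h1 := ((qrs_inM S M hH _ (qrsSh_J4 s)).mul h).mul (qrs_inM S M hH _ (qrsSh_J4 (-s)))
  rwa [qrs_sh_eq] at h1

end Cfsg.Agent.Helper99.S43QRS
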