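import Mathlib
import Cfsg.Agent.Helper48.M11UGeo

/-! Helper99: piece N0E of CALL S0420 stage 2 (helper48). -/

set_option autoImplicit false
open scoped Pointwise

namespace Cfsg.Agent.Helper99

open Cfsg.Agent.Helper48.M11U

universe u

variable {G : Type u} [Group G] [Finite G]

theorem m11u_n0_even (z : G) (hz : orderOf z = 2) (J : Finset G)
    (hJ : ∀ j, j ∈ J ↔ (j ∈ n0 z ∧ orderOf j = 2 ∧ j ≠ z)) : 2 ∣ J.card := by
  classical
  have hz2 : z * z = 1 := by
    have h := pow_orderOf_eq_one z
    rw [hz, pow_two] at h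
    exact h
  have hz1 : z ≠ 1 := by
    intro h
    rw [h, orderOf_one] at hz
    norm_num at hz
  have hzn : z ∈ n0 z := mem_n0.mpr ⟨rfl, fun P hP => inv_smul hP⟩
  have hmem : ∀ j ∈ J, j * z ∈ J := by
    intro j hj
    obtain ⟨hjn, hj2, hjz⟩ := (hJ j).mp hj
    have hcomm : j * z = z * j := (mem_n0.mp hjn).1
    have hjj : j * j = 1 := by
      have h := pow_orderOf_eq_one j
      rw [hj2, pow_two] at h
      exact h
    refine (hJ _).mpr ⟨mul_mem hjn hzn, ?_, ?_⟩
    · apply orderOf_eq_prime
      · rw [pow_two]
        calc j * z * (j * z) = j * (z * j) * z := by group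
          _ = j * (j * z) * z := by rw [hcomm]
          _ = (j * j) * (z * z) := by group
          _ = 1 := by rw [hjj, hz2, one_mul]
      · intro h1
        apply hjz
        have e : j = z⁻¹ := eq_inv_of_mul_eq_one_left h1
        rw [e]
        exact inv_eq_of_mul_eq_one_left hz2
    · intro h1
      have e : j = 1 := mul_right_cancel (h1.trans (one_mul z).symm)
      rw [e, orderOf_one] at hj2
      norm_num at hj2
  have hsum : ∑ j ∈ J, (1 : ZMod 2) = 0 := by
    refine Finset.sum_involution (fun j _ => j * z) ?_ ?_ (fun j hj => hmem j hj) ?_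
    · intro j hj
      decide
    · intro j hj _ h1
      apply hz1
      exact mul_left_cancel (h1.trans (mul_one j).symm)
    · intro j hj
      rw [mul_assoc, hz2, mul_one]
  rw [Finset.sum_const, nsmul_one] at hsum
  exact (ZMod.natCast_eq_zero_iff _ _).mp hsum

end Cfsg.Agent.Helper99
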