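import Mathlib
import Cfsg.Agent.Helper48.M11UGeo

/-! Helper99: piece ODJ of CALL S0420 stage 2 (helper48). -/

set_option autoImplicit false
open scoped Pointwise

namespace Cfsg.Agent.Helper99

open Cfsg.Agent.Helper48.M11U

universe u

variable {G : Type u} [Group G] [Finite G]

theorem m11u_orbdisj (h : M11Geo G) (z : G) (R S T : Sylow 3 G) (hz : orderOf z = 2)
    (h1 : Inv z R) (h2 : Inv z S) (h3 : Inv z T) (hRS : R ≠ S) (hRT : R ≠ T) (hST : S ≠ T)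
    (r : G) (hr : r ∈ (R : Subgroup G)) (r' : G) (hr' : r' ∈ (R : Subgroup G)) :
    r • S ≠ r' • T := by
  intro heq
  obtain ⟨ρ, hρdef⟩ : ∃ ρ : G, ρ = r'⁻¹ * r := ⟨_, rfl⟩
  have hρR : ρ ∈ (R : Subgroup G) := by
    rw [hρdef]
    exact mul_mem (inv_mem hr') hr
  have hρS : ρ • S = T := by
    rw [hρdef, mul_smul, heq, inv_smul_smul]
  have hρRR : ρ • R = R := (smul_eq_iff ρ R).mpr (Subgroup.le_normalizer hρR)
  have hw2 : orderOf (ρ * z * ρ⁻¹) = 2 := by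
    have h3' := MulEquiv.orderOf_eq (MulAut.conj ρ) z
    rw [MulAut.conj_apply] at h3'
    rw [h3', hz]
  have hwR : Inv (ρ * z * ρ⁻¹) R := by
    have h' := inv_conj h1 ρ
    rwa [hρRR] at h'
  have hwT : Inv (ρ * z * ρ⁻¹) T := by
    have h' := inv_conj h2 ρ
    rwa [hρS] at h'
  have hzw : z = ρ * z * ρ⁻¹ := h.l1.uniq z _ R T hz hw2 hRT h1 h3 hwR hwT
  have hinv : z * ρ * z⁻¹ = ρ⁻¹ := h1 ρ hρR
  have hc : z * ρ = ρ * z := by
    calc z * ρ = (ρ * z * ρ⁻¹) * ρ := by rw [← hzw]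
      _ = ρ * z := by group
  have hfix : z * ρ * z⁻¹ = ρ := by
    rw [hc]
    group
  have hρinv : ρ⁻¹ = ρ := by rw [← hinv, hfix]
  have hρ2 : ρ ^ 2 = 1 := by
    rw [pow_two]
    nth_rewrite 1 [← hρinv]
    exact inv_mul_cancel _
  have hρ9 : ρ ^ 9 = 1 := by
    have hcd := pow_card_eq_one' (G := ↥(R : Subgroup G)) (x := ⟨ρ, hρR⟩)
    rw [h.l1.raw.card3 R] at hcd
    have h' := congrArg (fun x : ↥(R : Subgroup G) => (x : G)) hcd
    simpa using h'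
  have hρ1 : ρ = 1 := by
    have e : ρ ^ 9 = ρ := by
      rw [show 9 = 2 * 4 + 1 from rfl, pow_succ, pow_mul, hρ2, one_pow, one_mul]
    rw [← e]
    exact hρ9
  apply hST
  rw [← hρS, hρ1, one_smul]

end Cfsg.Agent.Helper99
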