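import Mathlib
import Cfsg.Agent.Helper48.M11UGeo

/-! Helper99: piece TR1 of CALL S0420 stage 2 (helper48). -/

set_option autoImplicit false
open scoped Pointwise

namespace Cfsg.Agent.Helper99

open Cfsg.Agent.Helper48.M11U

universe u

variable {G : Type u} [Group G] [Finite G]

theorem m11u_trans1 (h : M11L1 G)
    (hfree : ∀ R S : Sylow 3 G, Adj R S → ∀ g : G, g • R = R → g • S = S →
      ∀ r ∈ (R : Subgroup G), r ≠ 1 → g * r = r * g → g = 1)
    (hd : ∀ R S : Sylow 3 G, Adj R S →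
      Nat.card ↥(MulAction.stabilizer G R ⊓ MulAction.stabilizer G S) = 8)
    (R S : Sylow 3 G) (hRS : Adj R S) (r : G) (hr : r ∈ (R : Subgroup G)) (r' : G)
    (hr' : r' ∈ (R : Subgroup G)) (hr1 : r ≠ 1) (hr'1 : r' ≠ 1) :
    ∃ g : G, g • R = R ∧ g • S = S ∧ g * r * g⁻¹ = r' := by
  classical
  obtain ⟨D, hDdef⟩ : ∃ D : Subgroup G,
      D = MulAction.stabilizer G R ⊓ MulAction.stabilizer G S := ⟨_, rfl⟩
  have hDcard : Nat.card ↥D = 8 := by
    rw [hDdef]
    exact hd R S hRS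
  have hDmem : ∀ g : G, g ∈ D → g • R = R ∧ g • S = S := by
    intro g hg
    rw [hDdef] at hg
    exact ⟨MulAction.mem_stabilizer_iff.mp (Subgroup.mem_inf.mp hg).1,
      MulAction.mem_stabilizer_iff.mp (Subgroup.mem_inf.mp hg).2⟩
  haveI : Fintype ↥D := Fintype.ofFinite _
  haveI : Fintype ↥(R : Subgroup G) := Fintype.ofFinite _
  have hconj : ∀ d : ↥D, (d : G) * r * (d : G)⁻¹ ∈ (R : Subgroup G) := by
    intro d
    have hn : (d : G) ∈ Subgroup.normalizer ((R : Subgroup G) : Set G) :=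
      (smul_eq_iff _ R).mp (hDmem d d.2).1
    exact (Subgroup.mem_normalizer_iff.mp hn r).mp hr
  let φ : ↥D → ↥(R : Subgroup G) := fun d => ⟨(d : G) * r * (d : G)⁻¹, hconj d⟩
  have hφ : Function.Injective φ := by
    intro d d' hdd
    have heq : (d : G) * r * (d : G)⁻¹ = (d' : G) * r * (d' : G)⁻¹ := congrArg Subtype.val hdd
    have hg : ((d' : G)⁻¹ * (d : G)) ∈ D := mul_mem (inv_mem d'.2) d.2
    have hc : ((d' : G)⁻¹ * (d : G)) * r = r * ((d' : G)⁻¹ * (d : G)) := by
      calc ((d' : G)⁻¹ * (d : G)) * r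
          = (d' : G)⁻¹ * ((d : G) * r * (d : G)⁻¹) * (d : G) := by group
        _ = (d' : G)⁻¹ * ((d' : G) * r * (d' : G)⁻¹) * (d : G) := by rw [heq]
        _ = r * ((d' : G)⁻¹ * (d : G)) := by group
    have h1 := hfree R S hRS _ (hDmem _ hg).1 (hDmem _ hg).2 r hr hr1 hc
    apply Subtype.ext
    exact (inv_mul_eq_one.mp h1).symm
  have hcardR : Fintype.card ↥(R : Subgroup G) = 9 := by
    rw [← Nat.card_eq_fintype_card]
    exact h.raw.card3 R
  have hcardD : Fintype.card ↥D = 8 := by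
    rw [← Nat.card_eq_fintype_card]
    exact hDcard
  have himg : Finset.univ.image φ = (Finset.univ : Finset ↥(R : Subgroup G)).erase 1 := by
    apply Finset.eq_of_subset_of_card_le
    · intro x hx
      obtain ⟨d, -, rfl⟩ := Finset.mem_image.mp hx
      rw [Finset.mem_erase]
      refine ⟨?_, Finset.mem_univ _⟩
      intro h1
      have e1 : (d : G) * r * (d : G)⁻¹ = 1 := congrArg Subtype.val h1
      apply hr1
      have e2 : r = (d : G)⁻¹ * ((d : G) * r * (d : G)⁻¹) * (d : G) := by group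
      rw [e2, e1]
      group
    · rw [Finset.card_image_of_injective _ hφ, Finset.card_erase_of_mem (Finset.mem_univ _),
        Finset.card_univ, Finset.card_univ, hcardR, hcardD]
  have hmem : (⟨r', hr'⟩ : ↥(R : Subgroup G)) ∈ Finset.univ.image φ := by
    rw [himg, Finset.mem_erase]
    exact ⟨fun h1 => hr'1 (congrArg Subtype.val h1), Finset.mem_univ _⟩
  obtain ⟨d, -, hd'⟩ := Finset.mem_image.mp hmem
  exact ⟨(d : G), (hDmem d d.2).1, (hDmem d d.2).2, congrArg Subtype.val hd'⟩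

end Cfsg.Agent.Helper99
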