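import Mathlib

/-!
# helper99: CALL PK piece B2 (`pk_mem_sup`, pure Mathlib): if `S` centralizes `K` then
`K ⊔ S = {k * y}`.
-/

set_option autoImplicit false

namespace Cfsg.Agent.Helper99

open Subgroup

universe u

variable {G : Type u} [Group G] [Finite G]

/-- B2 [S, PURE Mathlib]. If `S` centralizes `K` then `K ⊔ S = {k * y}`. -/
theorem pk_mem_sup {K S : Subgroup G} (h : S ≤ centralizer (K : Set G)) (z : G) :
    z ∈ K ⊔ S ↔ ∃ k ∈ K, ∃ y ∈ S, z = k * y := by
  have hc : ∀ k ∈ K, ∀ y ∈ S, k * y = y * k := fun k hk y hy =>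
    (Subgroup.mem_centralizer_iff.1 (h hy)) k hk
  constructor
  · intro hz
    have hz' : z ∈ Subgroup.closure ((K : Set G) ∪ S) := by
      rwa [Subgroup.closure_union, Subgroup.closure_eq, Subgroup.closure_eq]
    clear hz
    induction hz' using Subgroup.closure_induction with
    | mem x hx =>
      rcases hx with hx | hx
      · exact ⟨x, hx, 1, S.one_mem, (mul_one x).symm⟩
      · exact ⟨1, K.one_mem, x, hx, (one_mul x).symm⟩
    | one => exact ⟨1, K.one_mem, 1, S.one_mem, (mul_one 1).symm⟩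
    | mul a b _ _ ha hb =>
      obtain ⟨k1, hk1, y1, hy1, rfl⟩ := ha
      obtain ⟨k2, hk2, y2, hy2, rfl⟩ := hb
      refine ⟨k1 * k2, K.mul_mem hk1 hk2, y1 * y2, S.mul_mem hy1 hy2, ?_⟩
      have e := hc k2 hk2 y1 hy1
      calc k1 * y1 * (k2 * y2) = k1 * (y1 * k2) * y2 := by group
        _ = k1 * (k2 * y1) * y2 := by rw [← e]
        _ = k1 * k2 * (y1 * y2) := by group
    | inv a _ ha =>
      obtain ⟨k, hk, y, hy, rfl⟩ := ha
      refine ⟨k⁻¹, K.inv_mem hk, y⁻¹, S.inv_mem hy, ?_⟩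
      have e := hc k hk y hy
      rw [e, mul_inv_rev]
  · rintro ⟨k, hk, y, hy, rfl⟩
    exact Subgroup.mul_mem _ (Subgroup.mem_sup_left hk) (Subgroup.mem_sup_right hy)

end Cfsg.Agent.Helper99
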