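import Cfsg.Agent.Helper47.BG14RK
import Cfsg.Agent.S1352

/-!
# Helper99: piece SA of CALL BGC (helper25, B&G 14.4/14.5)
-/

set_option autoImplicit false

namespace Cfsg.Agent.Helper99

open Cfsg Subgroup

universe u

variable {G : Type u} [Group G] [Finite G]

/-- SA (S1352 normality + `κ ∩ τ₂ = ∅`). A `τ₂(N)`-element of `N` lies in `U N_σ`. -/
theorem bgc_mem_sup_of_tau2 (hG : IsMinSimpleOddOrder G) {N K' U' : Subgroup G} (hN : IsCoatom N)
    (hKU : IsSigmaDecomposition N K' U') {x : G} (hxN : x ∈ N)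
    (hx : ∀ q : ℕ, q.Prime → q ∣ orderOf x → q ∈ tau2 N) : x ∈ U' ⊔ sigmaCore N := by
  obtain ⟨hcyc, hhall, hcompl, hnorm⟩ := hKU
  have hKU2 : IsSigmaDecomposition N K' U' := ⟨hcyc, hhall, hcompl, hnorm⟩
  have hKN : K' ≤ N := hhall.1
  have hUN : U' ≤ N := hcompl.1
  have hσN : sigmaCore N ≤ N := Subgroup.map_subtype_le _
  have hWN : U' ⊔ sigmaCore N ≤ N := sup_le hUN hσN
  have hnormal : N ≤ normalizer ((U' ⊔ sigmaCore N : Subgroup G) : Set G) :=
    (Cfsg.Agent.S1352.result hG N hN K' hcyc hhall).2 U' hKU2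
  haveI hWn : ((U' ⊔ sigmaCore N).subgroupOf N).Normal :=
    (Subgroup.normal_subgroupOf_iff_le_normalizer hWN).mpr hnormal
  -- `N = K' W`
  have htop : N ≤ K' ⊔ (U' ⊔ sigmaCore N) := by
    intro n hn
    obtain ⟨a, ha, b, hb, rfl⟩ := hcompl.2.2.2 n hn
    have hb' : b ∈ K' ⊔ (U' ⊔ sigmaCore N) := by
      have h1 : K' ⊔ sigmaCore N ≤ K' ⊔ (U' ⊔ sigmaCore N) :=
        sup_le le_sup_left (le_sup_right.trans le_sup_right)
      exact h1 hb
    have ha' : a ∈ K' ⊔ (U' ⊔ sigmaCore N) := (le_sup_left.trans le_sup_right : U' ≤ _) ha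
    exact mul_mem ha' hb'
  have htop' : K'.subgroupOf N ⊔ (U' ⊔ sigmaCore N).subgroupOf N = ⊤ := by
    rw [← Subgroup.subgroupOf_sup hKN hWN, Subgroup.subgroupOf_eq_top]
    exact htop
  have hidx : ((U' ⊔ sigmaCore N).subgroupOf N).index ∣ Nat.card K' := by
    rw [← Subgroup.relIndex_top_right, ← htop', Subgroup.relIndex_sup_right]
    have h1 := Subgroup.relIndex_dvd_card ((U' ⊔ sigmaCore N).subgroupOf N) (K'.subgroupOf N)
    have h2 : Nat.card (K'.subgroupOf N) = Nat.card K' :=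
      Nat.card_congr (Subgroup.subgroupOfEquivOfLe hKN).toEquiv
    rwa [h2] at h1
  -- coprimality
  have hcop : Nat.Coprime (orderOf x) ((U' ⊔ sigmaCore N).subgroupOf N).index := by
    apply Nat.coprime_of_dvd
    intro p hp hpx hpi
    have hτ : p ∈ tau2 N := hx p hp hpx
    have hκ : p ∈ kappa N := hhall.2.1 p hp (hpi.trans hidx)
    exact hτ.2.2.2 (Cfsg.Agent.Helper47.bg14_rank_of_kappa hκ)
  -- the image of `x` in `N / W` is trivial
  have hmem : (⟨x, hxN⟩ : ↥N) ∈ (U' ⊔ sigmaCore N).subgroupOf N := by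
    rw [← QuotientGroup.eq_one_iff, ← orderOf_eq_one_iff]
    have h1 : orderOf ((⟨x, hxN⟩ : ↥N) : ↥N ⧸ (U' ⊔ sigmaCore N).subgroupOf N) ∣ orderOf x := by
      apply orderOf_dvd_of_pow_eq_one
      rw [← QuotientGroup.mk_pow]
      have e : (⟨x, hxN⟩ : ↥N) ^ orderOf x = 1 := by
        apply Subtype.ext
        simp [pow_orderOf_eq_one]
      rw [e]
      rfl
    have h2 : orderOf ((⟨x, hxN⟩ : ↥N) : ↥N ⧸ (U' ⊔ sigmaCore N).subgroupOf N) ∣
        ((U' ⊔ sigmaCore N).subgroupOf N).index := by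
      rw [Subgroup.index_eq_card]
      exact orderOf_dvd_natCard _
    exact Nat.eq_one_of_dvd_coprimes hcop h1 h2
  exact Subgroup.mem_subgroupOf.mp hmem

end Cfsg.Agent.Helper99
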