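import Cfsg.Agent.Helper23.Trans
import Cfsg.Agent.S1404

/-!
# Helper99: piece TR of CALL BGC (helper25, B&G 14.4/14.5)
-/

set_option autoImplicit false

namespace Cfsg.Agent.Helper99

open Cfsg Subgroup

universe u

variable {G : Type u} [Group G] [Finite G]

/-- conjugating `M` by `a * b` with `b ∈ M` is conjugating by `a`. -/
theorem bgctr_map_conj_mul (M : Subgroup G) (a b : G) (hb : b ∈ M) :
    M.map (MulAut.conj (a * b)).toMonoidHom = M.map (MulAut.conj a).toMonoidHom := by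
  ext y
  simp only [Subgroup.mem_map, MulEquiv.coe_toMonoidHom, MulAut.conj_apply]
  constructor
  · rintro ⟨z, hz, rfl⟩
    refine ⟨b * z * b⁻¹, M.mul_mem (M.mul_mem hb hz) (M.inv_mem hb), ?_⟩
    group
  · rintro ⟨z, hz, rfl⟩
    refine ⟨b⁻¹ * z * b, M.mul_mem (M.mul_mem (M.inv_mem hb) hz) hb, ?_⟩
    group

/-- local copy of piece CJ. -/
theorem bgctr_conj_compl {N S E : Subgroup G} (hE : IsComplIn E S N)
    (hSn : N ≤ normalizer (S : Set G)) {x c : G} (hx : x ∈ E) (hc : c ∈ N)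
    (hcx : c⁻¹ * x * c ∈ E) :
    ∃ r ∈ S ⊓ centralizer ({x} : Set G), ∃ e ∈ E, c = r * e := by
  obtain ⟨hEN, hSN, hES, hprod⟩ := hE
  obtain ⟨e₀, he₀, s₀, hs₀, rfl⟩ := hprod c hc
  have hnorm : ∀ n ∈ N, ∀ s ∈ S, n * s * n⁻¹ ∈ S := fun n hn s hs =>
    (Subgroup.mem_normalizer_iff.mp (hSn hn) s).mp hs
  -- x₁ := e₀⁻¹ x e₀
  have hx₁ : e₀⁻¹ * x * e₀ ∈ E := E.mul_mem (E.mul_mem (E.inv_mem he₀) hx) he₀
  have h1 : (e₀⁻¹ * x * e₀)⁻¹ * ((e₀ * s₀)⁻¹ * x * (e₀ * s₀)) ∈ E :=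
    E.mul_mem (E.inv_mem hx₁) hcx
  have h2 : (e₀⁻¹ * x * e₀)⁻¹ * ((e₀ * s₀)⁻¹ * x * (e₀ * s₀)) ∈ S := by
    have e : (e₀⁻¹ * x * e₀)⁻¹ * ((e₀ * s₀)⁻¹ * x * (e₀ * s₀))
        = ((e₀⁻¹ * x * e₀)⁻¹ * s₀⁻¹ * (e₀⁻¹ * x * e₀)⁻¹⁻¹) * s₀ := by group
    rw [e]
    exact S.mul_mem (hnorm _ (hEN (E.inv_mem hx₁)) _ (S.inv_mem hs₀)) hs₀
  have h3 : (e₀⁻¹ * x * e₀)⁻¹ * ((e₀ * s₀)⁻¹ * x * (e₀ * s₀)) = 1 := by
    have : (e₀⁻¹ * x * e₀)⁻¹ * ((e₀ * s₀)⁻¹ * x * (e₀ * s₀)) ∈ E ⊓ S := ⟨h1, h2⟩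
    rw [hES] at this
    exact Subgroup.mem_bot.mp this
  have h4 : (e₀ * s₀)⁻¹ * x * (e₀ * s₀) = e₀⁻¹ * x * e₀ := by
    have h5 : (e₀⁻¹ * x * e₀) * ((e₀⁻¹ * x * e₀)⁻¹ * ((e₀ * s₀)⁻¹ * x * (e₀ * s₀)))
        = (e₀⁻¹ * x * e₀) * 1 := by rw [h3]
    rw [mul_inv_cancel_left, mul_one] at h5
    exact h5
  have hrc : e₀ * s₀ * e₀⁻¹ ∈ centralizer ({x} : Set G) := by
    rw [Subgroup.mem_centralizer_iff]
    intro h hh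
    rw [Set.mem_singleton_iff] at hh
    subst hh
    calc h * (e₀ * s₀ * e₀⁻¹) = (e₀ * s₀) * ((e₀ * s₀)⁻¹ * h * (e₀ * s₀)) * e₀⁻¹ := by group
      _ = (e₀ * s₀) * (e₀⁻¹ * h * e₀) * e₀⁻¹ := by rw [h4]
      _ = e₀ * s₀ * e₀⁻¹ * h := by group
  exact ⟨e₀ * s₀ * e₀⁻¹, Subgroup.mem_inf.mpr ⟨hnorm _ (hEN he₀) _ hs₀, hrc⟩, e₀, he₀, by group⟩

/-- TR (S1404 for `X₀` and `g⁻¹`, then CJ). -/
theorem bgc_trans_core (hG : IsMinSimpleOddOrder G) {M N X₀ : Subgroup G} {u : ℕ}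
    (hM : IsCoatom M) (hu : u.Prime) (hX₀ : Nat.card X₀ = u) {x : G} (hx : x ∈ sigmaCore M)
    (hX₀x : X₀ ≤ zpowers x) (hNX : normalizer (X₀ : Set G) ≤ N)
    (hE : IsComplIn (M ⊓ N) (sigmaCore N) N) {g : G}
    (hxg : x ∈ M.map (MulAut.conj g).toMonoidHom) :
    ∃ r ∈ sigmaCore N ⊓ centralizer ({x} : Set G),
      M.map (MulAut.conj g).toMonoidHom = M.map (MulAut.conj r).toMonoidHom := by
  haveI : Fact u.Prime := ⟨hu⟩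
  have hσM : sigmaCore M ≤ M := Cfsg.Agent.Helper23.piCoreOf_le (sigma M) M
  have hxM : x ∈ M := hσM hx
  have hX₀σ : X₀ ≤ sigmaCore M := hX₀x.trans (Subgroup.zpowers_le.mpr hx)
  have huσ : u ∈ sigma M := by
    apply Cfsg.Agent.Helper23.mem_of_dvd_card_piCoreOf (sigma M) M hu
    have h := Subgroup.card_dvd_of_le hX₀σ
    rw [hX₀] at h
    exact h
  have hXp : IsPGroup u X₀ := IsPGroup.of_card (n := 1) (by rw [hX₀, pow_one])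
  have hX1 : X₀ ≠ ⊥ := by
    intro h
    rw [h, Subgroup.card_bot] at hX₀
    exact hu.one_lt.ne hX₀
  -- `g⁻¹ x g ∈ M`
  obtain ⟨y₀, hy₀, hy₀x⟩ := Subgroup.mem_map.mp hxg
  have hy₀x' : g * y₀ * g⁻¹ = x := by
    simpa [MulAut.conj_apply] using hy₀x
  have hxg' : g⁻¹ * x * g ∈ M := by
    rw [← hy₀x']
    have e : g⁻¹ * (g * y₀ * g⁻¹) * g = y₀ := by group
    rw [e]
    exact hy₀
  have hle : X₀.map (MulAut.conj g⁻¹).toMonoidHom ≤ M := by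
    rw [Subgroup.map_le_iff_le_comap]
    refine hX₀x.trans (Subgroup.zpowers_le.mpr ?_)
    rw [Subgroup.mem_comap]
    simpa [MulAut.conj_apply] using hxg'
  obtain ⟨m, hm, c, hc, hgmc⟩ :=
    (Cfsg.Agent.S1404.result hG M hM u huσ X₀ hXp hX1 (hX₀σ.trans hσM)).1 g⁻¹ hle
  -- `g = c⁻¹ m⁻¹`
  have hg : g = c⁻¹ * m⁻¹ := by
    have := congrArg (fun t => t⁻¹) hgmc
    simpa [mul_inv_rev] using this
  have hcN : c⁻¹ ∈ N := by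
    apply hNX
    apply Subgroup.inv_mem
    exact Subgroup.centralizer_le_normalizer (X₀ : Set G) hc
  have hxN : x ∈ N := by
    apply hNX
    apply Subgroup.centralizer_le_normalizer (X₀ : Set G)
    rw [Subgroup.mem_centralizer_iff]
    intro y hy
    obtain ⟨k, rfl⟩ := Subgroup.mem_zpowers_iff.mp (hX₀x hy)
    exact ((Commute.refl x).zpow_left k).eq
  have hmap : M.map (MulAut.conj g).toMonoidHom = M.map (MulAut.conj c⁻¹).toMonoidHom := by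
    rw [hg]
    exact bgctr_map_conj_mul M c⁻¹ m⁻¹ (M.inv_mem hm)
  -- `c⁻¹⁻¹ x c⁻¹ ∈ M ⊓ N`
  have hcx : (c⁻¹)⁻¹ * x * c⁻¹ ∈ M ⊓ N := by
    refine ⟨?_, N.mul_mem (N.mul_mem (N.inv_mem hcN) hxN) hcN⟩
    rw [hmap] at hxg
    obtain ⟨y₁, hy₁, hy₁x⟩ := Subgroup.mem_map.mp hxg
    have hy₁x' : c⁻¹ * y₁ * (c⁻¹)⁻¹ = x := by
      simpa [MulAut.conj_apply] using hy₁x
    rw [← hy₁x']
    have e : (c⁻¹)⁻¹ * (c⁻¹ * y₁ * (c⁻¹)⁻¹) * c⁻¹ = y₁ := by group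
    rw [e]
    exact hy₁
  obtain ⟨r, hr, e, he, hcre⟩ := bgctr_conj_compl hE
    (Cfsg.Agent.Helper23.le_normalizer_piCoreOf (sigma N) N) (x := x) (c := c⁻¹)
    ⟨hxM, hxN⟩ hcN hcx
  refine ⟨r, hr, ?_⟩
  rw [hmap, hcre]
  exact bgctr_map_conj_mul M r e he.1

end Cfsg.Agent.Helper99
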