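import Mathlib
import Cfsg.Prelude.Def_GeometricClasses
import Cfsg.Prelude.Def_ClassicalGeometry
import Cfsg.Prelude.Def_LieClassical
import Cfsg.Agent.Helper94.SpGen
import Cfsg.Agent.Helper94.SpSwap

/-!
# helper99: CALL S5976 piece PSI (`c3u_psi`): the coordinate map `Ψ : (K')^m → F^{2d}` of a
`J`-orthonormal family, turning the hermitian form into `f(·, J·) - θ f(·,·)`.
-/

set_option autoImplicit false

namespace Cfsg.Agent.Helper99

open Matrix Module

/-- Coordinates of `K'` with respect to `1, θ`. -/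
theorem c3u_psi_coord {F : Type*} [Field F] (K' : Type*) [Field K'] [Algebra F K'] (θ : K')
    (hth1 : ∀ c : K', ∃ a b : F, c = algebraMap F K' a + algebraMap F K' b * θ)
    (hth2 : ∀ a b : F, algebraMap F K' a + algebraMap F K' b * θ = 0 → a = 0 ∧ b = 0) :
    ∃ co : K' →ₗ[F] F × F,
      (∀ c, c = algebraMap F K' (co c).1 + algebraMap F K' (co c).2 * θ) ∧
      (∀ a b : F, co (algebraMap F K' a + algebraMap F K' b * θ) = (a, b)) := by
  let φ : F × F →ₗ[F] K' :=
    { toFun := fun x => algebraMap F K' x.1 + algebraMap F K' x.2 * θ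
      map_add' := by
        intro x y
        simp only [Prod.fst_add, Prod.snd_add, map_add]
        ring
      map_smul' := by
        intro c x
        simp only [Prod.smul_fst, Prod.smul_snd, smul_eq_mul, map_mul, RingHom.id_apply]
        rw [Algebra.smul_def]
        ring }
  have hφ : ∀ x : F × F, φ x = algebraMap F K' x.1 + algebraMap F K' x.2 * θ := fun x => rfl
  have hinj : Function.Injective φ := by
    rw [← LinearMap.ker_eq_bot, LinearMap.ker_eq_bot']
    intro x hx
    rw [hφ] at hx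
    obtain ⟨h1, h2⟩ := hth2 _ _ hx
    exact Prod.ext h1 h2
  have hsurj : Function.Surjective φ := by
    intro c
    obtain ⟨a, b, rfl⟩ := hth1 c
    exact ⟨(a, b), rfl⟩
  let φe := LinearEquiv.ofBijective φ ⟨hinj, hsurj⟩
  have hφe : ∀ x : F × F, φe x = algebraMap F K' x.1 + algebraMap F K' x.2 * θ := fun x => rfl
  refine ⟨φe.symm.toLinearMap, ?_, ?_⟩
  · intro c
    have h := φe.apply_symm_apply c
    rw [hφe] at h
    exact h.symm
  · intro a b
    have h : φe (a, b) = algebraMap F K' a + algebraMap F K' b * θ := rfl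
    rw [← h]
    exact φe.symm_apply_apply (a, b)

/-- PIECE PSI (the three TH facts are hypotheses) -/
theorem c3u_psi {F : Type*} [Field F] [Fintype F] (d : ℕ) (n : F)
    (J : Matrix (Fin d ⊕ Fin d) (Fin d ⊕ Fin d) F)
    (hJ2 : J * J = n • (1 : Matrix (Fin d ⊕ Fin d) (Fin d ⊕ Fin d) F))
    (hJs : ∀ u v, Cfsg.sympForm d F (J *ᵥ u) v = - Cfsg.sympForm d F u (J *ᵥ v))
    (m : ℕ) (e : Fin m → (Fin d ⊕ Fin d → F))
    (he1 : ∀ i j, Cfsg.sympForm d F (e i) (J *ᵥ e j) = if i = j then 1 else 0)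
    (he0 : ∀ i j, Cfsg.sympForm d F (e i) (e j) = 0)
    (K' : Type*) [Field K'] [Algebra F K'] (θ : K') (hθ : θ * θ = algebraMap F K' n)
    (hth1 : ∀ c : K', ∃ a b : F, c = algebraMap F K' a + algebraMap F K' b * θ)
    (hth2 : ∀ a b : F, algebraMap F K' a + algebraMap F K' b * θ = 0 → a = 0 ∧ b = 0)
    (hth3 : θ ^ Fintype.card F = -θ) :
    ∃ Ψ : (Fin m → K') →ₗ[F] (Fin d ⊕ Fin d → F), Function.Injective Ψ ∧
      (∀ w, Ψ (θ • w) = J *ᵥ Ψ w) ∧
      (∀ w, Ψ w ∈ Submodule.span F (Set.range e ∪ Set.range (fun i => J *ᵥ e i))) ∧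
      (∀ w w', Cfsg.hermForm m K' (Fintype.card F) w w' =
        algebraMap F K' (Cfsg.sympForm d F (Ψ w) (J *ᵥ Ψ w')) -
          θ * algebraMap F K' (Cfsg.sympForm d F (Ψ w) (Ψ w'))) := by
  obtain ⟨co, hco1, hco2⟩ := c3u_psi_coord K' θ hth1 hth2
  have hcoθ : ∀ c : K', co (θ * c) = (n * (co c).2, (co c).1) := by
    intro c
    have h : θ * c = algebraMap F K' (n * (co c).2) + algebraMap F K' (co c).1 * θ := by
      conv_lhs => rw [hco1 c]
      rw [map_mul]
      linear_combination (algebraMap F K' (co c).2) * hθ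
    rw [h, hco2]
  have hJJ : ∀ v : Fin d ⊕ Fin d → F, J *ᵥ (J *ᵥ v) = n • v := by
    intro v
    rw [Matrix.mulVec_mulVec, hJ2, Matrix.smul_mulVec, Matrix.one_mulVec]
  let Ψ : (Fin m → K') →ₗ[F] (Fin d ⊕ Fin d → F) :=
    { toFun := fun w => ∑ i, ((co (w i)).1 • e i + (co (w i)).2 • (J *ᵥ e i))
      map_add' := by
        intro w w'
        rw [← Finset.sum_add_distrib]
        refine Finset.sum_congr rfl fun i _ => ?_
        simp only [Pi.add_apply, map_add, Prod.fst_add, Prod.snd_add, add_smul]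
        abel
      map_smul' := by
        intro c w
        simp only [RingHom.id_apply]
        rw [Finset.smul_sum]
        refine Finset.sum_congr rfl fun i _ => ?_
        simp only [Pi.smul_apply, map_smul, Prod.smul_fst, Prod.smul_snd, smul_eq_mul, smul_add,
          smul_smul] }
  have hΨ : ∀ w, Ψ w = ∑ i, ((co (w i)).1 • e i + (co (w i)).2 • (J *ᵥ e i)) := fun w => rfl
  have hJeJe : ∀ i j, Cfsg.sympForm d F (J *ᵥ e i) (J *ᵥ e j) = 0 := by
    intro i j
    rw [hJs, hJJ, Helper94.sf_smul_right, he0, mul_zero, neg_zero]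
  have hJee : ∀ i j, Cfsg.sympForm d F (J *ᵥ e i) (e j) = - (if i = j then 1 else 0) := by
    intro i j
    rw [hJs, he1]
  have hL : ∀ w y, Cfsg.sympForm d F (Ψ w) y =
      ∑ i, ((co (w i)).1 * Cfsg.sympForm d F (e i) y +
        (co (w i)).2 * Cfsg.sympForm d F (J *ᵥ e i) y) := by
    intro w y
    rw [hΨ, Helper94.sf_sum_left]
    refine Finset.sum_congr rfl fun i _ => ?_
    rw [Helper94.sf_add_left, Helper94.sf_smul_left, Helper94.sf_smul_left]
  have hR : ∀ w y, Cfsg.sympForm d F y (Ψ w) =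
      ∑ i, ((co (w i)).1 * Cfsg.sympForm d F y (e i) +
        (co (w i)).2 * Cfsg.sympForm d F y (J *ᵥ e i)) := by
    intro w y
    rw [hΨ, Helper94.sf_sum_right]
    refine Finset.sum_congr rfl fun i _ => ?_
    rw [Helper94.sf_add_right, Helper94.sf_smul_right, Helper94.sf_smul_right]
  have hA : ∀ w j, Cfsg.sympForm d F (Ψ w) (J *ᵥ e j) = (co (w j)).1 := by
    intro w j
    rw [hL]
    simp only [he1, hJeJe, mul_zero, add_zero, mul_ite, mul_one, Finset.sum_ite_eq',
      Finset.mem_univ, if_true]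
  have hB : ∀ w j, Cfsg.sympForm d F (Ψ w) (e j) = - (co (w j)).2 := by
    intro w j
    rw [hL]
    simp only [he0, hJee, mul_zero, zero_add, mul_neg, mul_ite, mul_one, neg_zero,
      Finset.sum_neg_distrib, Finset.sum_ite_eq', Finset.mem_univ, if_true]
  have hΨJ : ∀ w, Ψ (θ • w) = J *ᵥ Ψ w := by
    intro w
    rw [hΨ, hΨ, Matrix.mulVec_sum]
    refine Finset.sum_congr rfl fun i _ => ?_
    rw [Pi.smul_apply, smul_eq_mul, hcoθ, Matrix.mulVec_add, Matrix.mulVec_smul,
      Matrix.mulVec_smul, hJJ, smul_smul]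
    rw [mul_comm, add_comm]
  refine ⟨Ψ, ?_, hΨJ, ?_, ?_⟩
  · rw [← LinearMap.ker_eq_bot, LinearMap.ker_eq_bot']
    intro w hw
    funext j
    have h1 := hA w j
    have h2 := hB w j
    rw [hw, Helper94.sf_zero_left] at h1 h2
    have h3 := hco1 (w j)
    rw [← h1, neg_eq_zero.mp h2.symm, map_zero, zero_mul, add_zero] at h3
    exact h3
  · intro w
    rw [hΨ]
    exact Submodule.sum_mem _ fun i _ => Submodule.add_mem _
      (Submodule.smul_mem _ _ (Submodule.subset_span (Or.inl ⟨i, rfl⟩)))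
      (Submodule.smul_mem _ _ (Submodule.subset_span (Or.inr ⟨i, rfl⟩)))
  · intro w w'
    have hfrob : ∀ c : K', c ^ Fintype.card F =
        algebraMap F K' (co c).1 - algebraMap F K' (co c).2 * θ := by
      intro c
      conv_lhs => rw [hco1 c]
      have h1 : (algebraMap F K' (co c).1) ^ Fintype.card F = algebraMap F K' (co c).1 :=
        (FiniteField.frobeniusAlgHom F K').commutes _
      have h2 : (algebraMap F K' (co c).2) ^ Fintype.card F = algebraMap F K' (co c).2 :=
        (FiniteField.frobeniusAlgHom F K').commutes _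
      have hadd' : (algebraMap F K' (co c).1 + algebraMap F K' (co c).2 * θ) ^ Fintype.card F =
          (algebraMap F K' (co c).1) ^ Fintype.card F +
            (algebraMap F K' (co c).2 * θ) ^ Fintype.card F :=
        map_add (FiniteField.frobeniusAlgHom F K') (algebraMap F K' (co c).1)
          (algebraMap F K' (co c).2 * θ)
      rw [hadd', mul_pow, h1, h2, hth3]
      ring
    have h1 : Cfsg.sympForm d F (Ψ w) (J *ᵥ Ψ w') =
        ∑ j, ((co (w j)).1 * (co (w' j)).1 - n * ((co (w j)).2 * (co (w' j)).2)) := by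
      rw [← hΨJ, hR]
      refine Finset.sum_congr rfl fun j _ => ?_
      simp only [Pi.smul_apply, smul_eq_mul, hcoθ, hA, hB]
      ring
    have h2 : Cfsg.sympForm d F (Ψ w) (Ψ w') =
        ∑ j, ((co (w j)).1 * (co (w' j)).2 - (co (w j)).2 * (co (w' j)).1) := by
      rw [hR]
      refine Finset.sum_congr rfl fun j _ => ?_
      rw [hA, hB]
      ring
    rw [h1, h2, map_sum, map_sum, Finset.mul_sum, ← Finset.sum_sub_distrib]
    unfold Cfsg.hermForm
    refine Finset.sum_congr rfl fun j _ => ?_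
    rw [hfrob]
    conv_lhs => rw [hco1 (w j)]
    simp only [map_sub, map_mul]
    linear_combination (-(algebraMap F K' (co (w j)).2 * algebraMap F K' (co (w' j)).2)) * hθ

end Cfsg.Agent.Helper99
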