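import Cfsg.Agent.Helper96.CWDefs

/-!
# helper99: CALL S5707 piece CM
-/

set_option autoImplicit false
set_option linter.unusedSectionVars false
set_option linter.unusedSimpArgs false
set_option linter.unusedVariables false

namespace Cfsg.Agent.Helper99.CWCM

open Matrix Cfsg Cfsg.Geo Cfsg.Agent.Helper96 Cfsg.Agent.Helper96.CW

variable {F : Type*} [Field F] {k t : ℕ}

theorem cm_ptM_facM (Xs : Fin t → Matrix (Fin k) (Fin k) F) (j : Fin t) (hj : Xs j = 1)
    (Y : Matrix (Fin k) (Fin k) F) : ptM Xs * facM j Y = ptM (Function.update Xs j Y) := by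
  classical
  rw [facM_eq_ptM, ptM_mul]
  congr 1
  funext l
  by_cases h : l = j
  · subst h
    simp only [Function.update_self, hj, one_mul]
  · simp only [Function.update_of_ne h, mul_one]

theorem cm_facM_ptM (Xs : Fin t → Matrix (Fin k) (Fin k) F) (j : Fin t) (hj : Xs j = 1)
    (Y : Matrix (Fin k) (Fin k) F) : facM j Y * ptM Xs = ptM (Function.update Xs j Y) := by
  classical
  rw [facM_eq_ptM, ptM_mul]
  congr 1
  funext l
  by_cases h : l = j
  · subst h
    simp only [Function.update_self, hj, mul_one]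
  · simp only [Function.update_of_ne h, one_mul]

theorem cm_ptM_zero (a : Fin t → Matrix (Fin k) (Fin k) F) (i : Fin t) (h : a i = 0) :
    ptM a = 0 := by
  ext x y
  rw [ptM_apply, Matrix.zero_apply]
  exact Finset.prod_eq_zero (Finset.mem_univ i) (by rw [h]; rfl)

/-- PIECE CM: the commutator of a Siegel element with a factor matrix (characteristic 2). -/
theorem cm (h2 : (2 : F) = 0) (Xs : Fin t → Matrix (Fin k) (Fin k) F) (j : Fin t)
    (hj : Xs j = 1) (hsq : ∃ i, i ≠ j ∧ Xs i * Xs i = 0)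
    (Y D Dinv : Matrix (Fin k) (Fin k) F) (hD1 : D * Dinv = 1) (hD2 : Dinv * D = 1) :
    ptM Xs * facM j Y = ptM (Function.update Xs j Y) ∧
    (1 + ptM Xs * facM j Y) * facM j D * (1 + ptM Xs * facM j Y) * facM j Dinv
      = 1 + ptM Xs * facM j (Y + D * Y * Dinv) := by
  classical
  refine ⟨cm_ptM_facM Xs j hj Y, ?_⟩
  obtain ⟨i, hij, hi⟩ := hsq
  have ha : facM j D * facM j Dinv = (1 : Matrix (Fin t → Fin k) (Fin t → Fin k) F) := by
    rw [facM_mul_facM, hD1, facM_one]
  have hb : ptM Xs * facM j Y * facM j D * (ptM Xs * facM j Y) = 0 := by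
    rw [cm_ptM_facM Xs j hj Y, facM_eq_ptM, ptM_mul, ptM_mul]
    apply cm_ptM_zero _ i
    simp only [Function.update_of_ne hij, mul_one]
    exact hi
  have hcomm : facM j D * ptM Xs = ptM Xs * facM j D := by
    rw [cm_facM_ptM Xs j hj D, cm_ptM_facM Xs j hj D]
  have hc : facM j D * (ptM Xs * facM j Y) * facM j Dinv = ptM Xs * facM j (D * Y * Dinv) := by
    rw [← mul_assoc, hcomm, mul_assoc, mul_assoc, facM_mul_facM, facM_mul_facM, ← mul_assoc D]
  have hd : facM j (Y + D * Y * Dinv) = facM j Y + facM j (D * Y * Dinv) :=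
    map_add (facL k j) Y (D * Y * Dinv)
  obtain ⟨N, hN⟩ : ∃ N : Matrix (Fin t → Fin k) (Fin t → Fin k) F, N = ptM Xs * facM j Y :=
    ⟨_, rfl⟩
  rw [← hN] at hb hc
  rw [← hN]
  have hexp : (1 + N) * facM j D * (1 + N) * facM j Dinv
      = facM j D * facM j Dinv + N * (facM j D * facM j Dinv) + facM j D * N * facM j Dinv
        + N * facM j D * N * facM j Dinv := by
    noncomm_ring
  rw [hexp, ha, hb, hc, hd, mul_one, zero_mul, add_zero, mul_add, ← hN, add_assoc]

end Cfsg.Agent.Helper99.CWCM
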