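import Cfsg.Agent.Helper96.CWDefs

/-!
# helper99: CALL S5707 piece I4
-/

set_option autoImplicit false
set_option linter.unusedSectionVars false
set_option linter.unusedSimpArgs false
set_option linter.unusedVariables false

namespace Cfsg.Agent.Helper99.CWI4

open Matrix Cfsg Cfsg.Geo Cfsg.Agent.Helper96 Cfsg.Agent.Helper96.CW

variable {F : Type*} [Field F] {k t : ℕ}

/-- PIECE I4: `a (dm G x y) a⁻¹ = μ⁻¹ • dm G (a x) (a y)` for a similitude `a`. -/
theorem i4 (G : Matrix (Fin k) (Fin k) F) (a ainv : Matrix (Fin k) (Fin k) F)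
    (h1 : a * ainv = 1) (h2 : ainv * a = 1) (μ : F) (hμ : μ ≠ 0) (ha : aᵀ * G * a = μ • G)
    (W : Matrix (Fin k) (Fin k) F) (hW : W ∈ SD G) :
    a * W * ainv ∈ Submodule.span F (SD G) := by
  obtain ⟨x, y, hxy, rfl⟩ := hW
  have hsim : ∀ u v : Fin k → F, T5.bf G (a *ᵥ u) (a *ᵥ v) = μ * T5.bf G u v := by
    intro u v
    rw [T5.bf_mulVec_left, T5.bf_mulVec_right, ha]
    simp only [T5.bf, Matrix.smul_mulVec, dotProduct_smul, smul_eq_mul]
  have hinv : ∀ w v : Fin k → F, T5.bf G (ainv *ᵥ w) v = μ⁻¹ * T5.bf G w (a *ᵥ v) := by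
    intro w v
    have h := hsim (ainv *ᵥ w) v
    rw [Matrix.mulVec_mulVec, h1, Matrix.one_mulVec] at h
    rw [h, ← mul_assoc, inv_mul_cancel₀ hμ, one_mul]
  have key : a * T5.dm G x y * ainv = μ⁻¹ • T5.dm G (a *ᵥ x) (a *ᵥ y) := by
    apply Matrix.toLin'.injective
    apply LinearMap.ext
    intro w
    simp only [Matrix.toLin'_apply]
    rw [← Matrix.mulVec_mulVec, ← Matrix.mulVec_mulVec, T5.dm_mulVec, Matrix.smul_mulVec,
      T5.dm_mulVec, hinv, hinv, Matrix.mulVec_sub, Matrix.mulVec_smul, Matrix.mulVec_smul,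
      smul_sub, smul_smul, smul_smul]
  rw [key]
  exact Submodule.smul_mem _ _ (Submodule.subset_span
    ⟨a *ᵥ x, a *ᵥ y, by rw [hsim, hxy, mul_zero], rfl⟩)

end Cfsg.Agent.Helper99.CWI4
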