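import Mathlib
import Cfsg.Prelude.Def_LocalEven
import Cfsg.Prelude.Def_ConjugacyFunctors
import Cfsg.Agent.Helper99.QdFunctor
import Cfsg.Agent.Helper11.SecFusionB
import Cfsg.Agent.Helper33.KIso
import Cfsg.Agent.S2795

set_option autoImplicit false

/-!
# `Qd(p)`-free groups and control of strong fusion by a functor, in all sections

`kinfqd_iff`: for an isomorphism-invariant `p`-group functor `W` (`p` odd) such that non-normality of `W(S)`
in a `p`-constrained finite group forces a quotient that is not `p`-stable (normalizer form), `Qd(p)` is not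
involved in `G` iff `W(T)` controls strong fusion in every section `K / R` for every Sylow `p`-subgroup `T`.
-/

namespace Cfsg.Agent.Helper99

open Cfsg

universe u

/-- The equivalence "`Qd(p)`-free iff `W` controls strong fusion in all sections", from a ZJ-type
statement `h83` for `W` (in the form delivered by the K-infinity theorem). -/
theorem kinfqd_iff {G : Type u} [Group G] [Finite G] {p : ℕ} [Fact p.Prime] (hp : p ≠ 2)
    (W : ∀ (Q : Type u) [Group Q], Subgroup Q) (hW : Cfsg.IsCharPFunctor.{u} p W)
    (h83 : ∀ (X : Type u) [Group X] [Finite X] (S : Sylow p X),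
      ¬ (Cfsg.inducedFunctor W (S : Subgroup X)).Normal →
      Subgroup.centralizer ((Cfsg.pCore p X : Subgroup X) : Set X) ≤ Cfsg.pCore p X →
      ∃ (N : Subgroup X) (_ : N.Normal), ¬ Cfsg.IsNormalizerPStable p (X ⧸ N)) :
    ¬ Cfsg.Involves ↥(Cfsg.qd p) G ↔
      ∀ (K R : Subgroup G) [hR : (R.subgroupOf K).Normal], ∀ T : Sylow p (↥K ⧸ R.subgroupOf K),
        Cfsg.ControlsStrongFusion p (Cfsg.inducedFunctor (G := (↥K ⧸ R.subgroupOf K)) W
          (T : Subgroup (↥K ⧸ R.subgroupOf K))) := by
  constructor
  · intro hfree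
    apply Cfsg.Agent.Helper11.sf_controlsStrongFusion_sections hW
    intro K R hR hcon T
    by_contra hnn
    obtain ⟨N, hN, hnps⟩ := h83 (↥K ⧸ R.subgroupOf K) T hnn hcon
    apply hnps
    apply Cfsg.Agent.S2795.nps_of_qd_free hp
    intro hsec
    apply hfree
    have h1 : Cfsg.Agent.Helper33.IsSectionOf G ((↥K ⧸ R.subgroupOf K) ⧸ N) :=
      (Cfsg.Agent.Helper33.isSectionOf_quotient_subgroupOf K R).quotient N
    exact (h1.trans hsec).exists_equiv
  · intro h hinv
    obtain ⟨K, R, hR, ⟨e⟩⟩ := hinv
    exact qdfun_not_controls e W hW default (h K R default)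

end Cfsg.Agent.Helper99
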