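import Cfsg.Agent.Helper62.PKDefs
import Cfsg.Agent.Helper54.BG14T3
import Cfsg.Agent.S1354

/-!
# helper99: CALL PK piece B1 (`pk_basic`).
-/

set_option autoImplicit false

namespace Cfsg.Agent.Helper99

open Cfsg Subgroup Cfsg.Agent.Helper62

universe u

variable {G : Type u} [Group G] [Finite G]

/-- B1 [S]. Basic facts. -/
theorem pk_basic (hG : IsMinSimpleOddOrder G) {M K : Subgroup G} (c : PKCtx M K) :
    pkS M K ≠ ⊥ ∧ K ⊓ sigmaCore M = ⊥ ∧ K ≤ M ∧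
      (∀ q : ℕ, q.Prime → q ∣ Nat.card K → q ∈ kappa M) ∧
      (∀ k ∈ K, k ≠ 1 → M ⊓ centralizer ({k} : Set G) = pkZ M K) := by
  have h := Cfsg.Agent.S1354.result hG M c.coatom K c.cyclic c.hall
  refine ⟨h.1, ?_, c.hall.1, c.hall.2.1, ?_⟩
  · rw [Subgroup.eq_bot_iff_forall]
    intro x hx
    by_contra hx1
    have hox1 : orderOf x ≠ 1 := fun e => hx1 (orderOf_eq_one_iff.mp e)
    obtain ⟨q, hq, hqx⟩ := Nat.exists_prime_and_dvd hox1
    have hqK : q ∣ Nat.card K := by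
      have h' := orderOf_dvd_natCard (⟨x, hx.1⟩ : K)
      rw [Subgroup.orderOf_mk] at h'
      exact hqx.trans h'
    have hκ : q ∈ kappa M := c.hall.2.1 q hq hqK
    exact hκ.2.2.1 (Cfsg.Agent.Helper54.bg14t_mem_sigma_of_dvd hx.2 hq hqx)
  · intro k hk hk1
    exact h.2 c.ne k hk hk1

end Cfsg.Agent.Helper99
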