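import Cfsg.Agent.Helper62.PKDefs
import Cfsg.Agent.Helper99.PKB2

/-!
# helper99: CALL PK piece B3 (`pk_sigma_inf_Z`).
-/

set_option autoImplicit false

namespace Cfsg.Agent.Helper99

open Cfsg Subgroup Cfsg.Agent.Helper62

universe u

variable {G : Type u} [Group G] [Finite G]

/-- B3 [S]. `M_σ ∩ Z = K*`. -/
theorem pk_sigma_inf_Z {M K : Subgroup G} (hKσ : K ⊓ sigmaCore M = ⊥) :
    sigmaCore M ⊓ pkZ M K = pkS M K := by
  apply le_antisymm
  · intro z hz
    obtain ⟨hzσ, hzZ⟩ := Subgroup.mem_inf.1 hz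
    obtain ⟨k, hk, y, hy, rfl⟩ :=
      (pk_mem_sup (inf_le_right : pkS M K ≤ centralizer (K : Set G)) z).1 hzZ
    have hyσ : y ∈ sigmaCore M := (Subgroup.mem_inf.1 hy).1
    have hkσ : k ∈ sigmaCore M := by
      have h := Subgroup.mul_mem _ hzσ (Subgroup.inv_mem _ hyσ)
      rwa [mul_inv_cancel_right] at h
    have hk1 : k = 1 := by
      have h : k ∈ K ⊓ sigmaCore M := Subgroup.mem_inf.2 ⟨hk, hkσ⟩
      rw [hKσ] at h
      exact Subgroup.mem_bot.1 h
    rw [hk1, one_mul]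
    exact hy
  · exact le_inf inf_le_left le_sup_right

end Cfsg.Agent.Helper99
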