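import Cfsg.Agent.Helper62.PKDefs
import Cfsg.Agent.Helper99.PKB3

/-!
# helper99: CALL PK piece B4 (`pk_cent_T`).
-/

set_option autoImplicit false

namespace Cfsg.Agent.Helper99

open Cfsg Subgroup Cfsg.Agent.Helper62

universe u

variable {G : Type u} [Group G] [Finite G]

/-- B4 [S-M]. `C_{M_σ}(T) = K*` for `T ≤ K` of prime order. -/
theorem pk_cent_T {M K T : Subgroup G} (hKσ : K ⊓ sigmaCore M = ⊥)
    (hcent : ∀ k ∈ K, k ≠ 1 → M ⊓ centralizer ({k} : Set G) = pkZ M K) (hTK : T ≤ K)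
    (hT : (Nat.card T).Prime) :
    sigmaCore M ⊓ centralizer (T : Set G) = pkS M K := by
  have hT1 : T ≠ ⊥ := by
    rintro rfl
    rw [Subgroup.card_bot] at hT
    exact Nat.not_prime_one hT
  obtain ⟨k, hkT, hk1⟩ : ∃ k ∈ T, k ≠ 1 := by
    by_contra hcon
    push_neg at hcon
    exact hT1 ((Subgroup.eq_bot_iff_forall T).2 hcon)
  have hzk : Subgroup.zpowers k = T := by
    have hle : Subgroup.zpowers k ≤ T := Subgroup.zpowers_le.2 hkT
    have hd := Subgroup.card_dvd_of_le hle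
    rcases (Nat.dvd_prime hT).1 hd with h | h
    · exfalso
      apply hk1
      exact Subgroup.zpowers_eq_bot.1 (Subgroup.eq_bot_of_card_eq _ h)
    · exact Subgroup.eq_of_le_of_card_ge hle (le_of_eq h.symm)
  have hcen : centralizer (T : Set G) = centralizer ({k} : Set G) := by
    apply le_antisymm
    · exact Subgroup.centralizer_le (Set.singleton_subset_iff.2 hkT)
    · intro z hz
      rw [Subgroup.mem_centralizer_iff] at hz ⊢
      intro t ht
      have hzk' : Commute k z := hz k (Set.mem_singleton k)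
      have ht' : t ∈ Subgroup.zpowers k := by rw [hzk]; exact ht
      obtain ⟨n, rfl⟩ := Subgroup.mem_zpowers_iff.1 ht'
      exact (hzk'.zpow_left n).eq
  have hσM : sigmaCore M ≤ M := Subgroup.map_subtype_le _
  apply le_antisymm
  · intro z hz
    obtain ⟨hzσ, hzc⟩ := Subgroup.mem_inf.1 hz
    rw [hcen] at hzc
    have h : z ∈ M ⊓ centralizer ({k} : Set G) := Subgroup.mem_inf.2 ⟨hσM hzσ, hzc⟩
    rw [hcent k (hTK hkT) hk1] at h
    rw [← pk_sigma_inf_Z hKσ]
    exact Subgroup.mem_inf.2 ⟨hzσ, h⟩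
  · intro z hz
    obtain ⟨hzσ, hzc⟩ := Subgroup.mem_inf.1 hz
    exact Subgroup.mem_inf.2 ⟨hzσ, Subgroup.centralizer_le (fun x hx => hTK hx) hzc⟩

end Cfsg.Agent.Helper99
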