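import Mathlib

/-!
# helper99: CALL PK piece B5 (pure Mathlib).
-/

set_option autoImplicit false

namespace Cfsg.Agent.Helper99

open Subgroup

universe u

variable {G : Type u} [Group G] [Finite G]

/-- B5 [S, PURE Mathlib]. A nontrivial subgroup has a subgroup of prime order (Cauchy). -/
theorem pk_exists_prime {A : Subgroup G} (hA : A ≠ ⊥) :
    ∃ T : Subgroup G, T ≤ A ∧ (Nat.card T).Prime := by
  have hcard : Nat.card A ≠ 1 := fun h => hA (Subgroup.eq_bot_of_card_eq A h)
  obtain ⟨p, hp, hdvd⟩ := Nat.exists_prime_and_dvd hcard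
  haveI : Fact p.Prime := ⟨hp⟩
  obtain ⟨x, hx⟩ := exists_prime_orderOf_dvd_card' p hdvd
  refine ⟨Subgroup.zpowers (x : G), Subgroup.zpowers_le.2 x.2, ?_⟩
  rw [Nat.card_zpowers, Subgroup.orderOf_coe, hx]
  exact hp

end Cfsg.Agent.Helper99
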