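import Cfsg.Agent.Helper62.PKDefs
import Cfsg.Agent.Helper54.BG14T3
import Cfsg.Agent.Helper99.PKB2

/-!
# helper99: CALL PK piece C1 (`pk_case_bot`): the good case `K ∩ K₁ = 1`.
-/

set_option autoImplicit false

namespace Cfsg.Agent.Helper99

open Cfsg Subgroup Cfsg.Agent.Helper62

universe u

variable {G : Type u} [Group G] [Finite G]

/-- C1 [M]. The good case `K ∩ K₁ = 1`: then `K₁ = K*` and `K = C_{H_σ}(K*)`. -/
theorem pk_case_bot {M K H K₁ : Subgroup G} (hle : pkS M K ≤ K₁)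
    (hK₁Z : K₁ ≤ pkZ M K) (hKZ₁ : K ≤ pkZ H K₁) (hS₁Z : pkS H K₁ ≤ pkZ M K)
    (hKσ : K ⊓ sigmaCore M = ⊥) (hdisj : ∀ q : ℕ, q ∈ sigma M → q ∉ sigma H)
    (hbot : K ⊓ K₁ = ⊥) :
    K₁ = pkS M K ∧ K = sigmaCore H ⊓ centralizer ((pkS M K : Subgroup G) : Set G) := by
  have hSK : pkS M K ≤ centralizer (K : Set G) := inf_le_right
  have hS₁K₁ : pkS H K₁ ≤ centralizer (K₁ : Set G) := inf_le_right
  have hK₁ : K₁ = pkS M K := by
    apply le_antisymm _ hle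
    intro a ha
    obtain ⟨k, hk, y, hy, rfl⟩ := (pk_mem_sup hSK a).1 (hK₁Z ha)
    have hk₁ : k ∈ K₁ := by
      have h := Subgroup.mul_mem _ ha (Subgroup.inv_mem _ (hle hy))
      rwa [mul_inv_cancel_right] at h
    have hk1 : k = 1 := by
      have h : k ∈ K ⊓ K₁ := Subgroup.mem_inf.2 ⟨hk, hk₁⟩
      rw [hbot] at h
      exact Subgroup.mem_bot.1 h
    rw [hk1, one_mul]
    exact hy
  refine ⟨hK₁, ?_⟩
  have hσσ : ∀ y, y ∈ sigmaCore M → y ∈ sigmaCore H → y = 1 := by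
    intro y hyM hyH
    by_contra hy1
    have ho : orderOf y ≠ 1 := fun h => hy1 (orderOf_eq_one_iff.1 h)
    obtain ⟨q, hq, hqd⟩ := Nat.exists_prime_and_dvd ho
    exact hdisj q (Helper54.bg14t_mem_sigma_of_dvd hyM hq hqd)
      (Helper54.bg14t_mem_sigma_of_dvd hyH hq hqd)
  have hKS₁ : K ≤ pkS H K₁ := by
    intro k hk
    obtain ⟨a, ha, b, hb, rfl⟩ := (pk_mem_sup hS₁K₁ k).1 (hKZ₁ hk)
    have haσ : a ∈ sigmaCore M := by
      rw [hK₁] at ha
      exact (Subgroup.mem_inf.1 ha).1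
    have hbσ : b ∈ sigmaCore H := (Subgroup.mem_inf.1 hb).1
    have hab : Commute a b := (Subgroup.mem_centralizer_iff.1 (hS₁K₁ hb)) a ha
    have hcop : (orderOf a).Coprime (orderOf b) := by
      apply Nat.coprime_of_dvd
      intro q hq hqa hqb
      exact hdisj q (Helper54.bg14t_mem_sigma_of_dvd haσ hq hqa)
        (Helper54.bg14t_mem_sigma_of_dvd hbσ hq hqb)
    have haK : a ∈ K :=
      (Subgroup.zpowers_le.2 hk) (Helper54.bg14t_mem_zpowers_mul hab hcop).1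
    have ha1 : a = 1 := by
      have h : a ∈ K ⊓ sigmaCore M := Subgroup.mem_inf.2 ⟨haK, haσ⟩
      rw [hKσ] at h
      exact Subgroup.mem_bot.1 h
    rw [ha1, one_mul]
    exact hb
  have hgoal : sigmaCore H ⊓ centralizer ((pkS M K : Subgroup G) : Set G) = pkS H K₁ := by
    rw [← hK₁]
  rw [hgoal]
  apply le_antisymm hKS₁
  intro b hb
  obtain ⟨k, hk, y, hy, rfl⟩ := (pk_mem_sup hSK b).1 (hS₁Z hb)
  have hy₁ : y ∈ pkS H K₁ := by
    have h := Subgroup.mul_mem _ (Subgroup.inv_mem _ (hKS₁ hk)) hb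
    rwa [inv_mul_cancel_left] at h
  have hy1 : y = 1 := hσσ y (Subgroup.mem_inf.1 hy).1 (Subgroup.mem_inf.1 hy₁).1
  rw [hy1, mul_one]
  exact hk

end Cfsg.Agent.Helper99
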