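import Mathlib

/-!
# helper99: CALL PK piece D1 (pure Mathlib).
-/

set_option autoImplicit false

namespace Cfsg.Agent.Helper99

open Subgroup

universe u

variable {G : Type u} [Group G] [Finite G]

/-- D1 [S, PURE Mathlib]. A group of prime order has no two independent nontrivial subgroups. -/
theorem pk_not_prime {A B C : Subgroup G} (hA : A ≤ C) (hB : B ≤ C) (hA1 : A ≠ ⊥)
    (hB1 : B ≠ ⊥) (hAB : A ⊓ B = ⊥) : ¬ (Nat.card C).Prime := by
  intro hp
  have key : ∀ X : Subgroup G, X ≤ C → X ≠ ⊥ → X = C := by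
    intro X hX hX1
    have hd := Subgroup.card_dvd_of_le hX
    rcases (Nat.dvd_prime hp).1 hd with h | h
    · exact absurd (Subgroup.eq_bot_of_card_eq X h) hX1
    · exact Subgroup.eq_of_le_of_card_ge hX (le_of_eq h.symm)
  have hAC := key A hA hA1
  have hBC := key B hB hB1
  rw [hAC, hBC, inf_idem] at hAB
  exact hA1 (hAC.trans hAB)

end Cfsg.Agent.Helper99
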