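import Cfsg.Agent.Helper62.PKDefs
import Cfsg.Agent.Helper99.PKB5

/-!
# helper99: CALL PK piece D3 (`pk_good`).
-/

set_option autoImplicit false

namespace Cfsg.Agent.Helper99

open Cfsg Subgroup Cfsg.Agent.Helper62

universe u

variable {G : Type u} [Group G] [Finite G]

/-- D3 [S]. Centralizers of the non-identity elements of `M_σ ∩ Z = K*` lie in `M`. -/
theorem pk_good {M K : Subgroup G} (hσZ : sigmaCore M ⊓ pkZ M K = pkS M K)
    (hNM : ∀ T0 : Subgroup G, T0 ≤ pkS M K → (Nat.card T0).Prime →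
      normalizer (T0 : Set G) ≤ M) :
    ∀ d ∈ sigmaCore M ⊓ pkZ M K, d ≠ 1 → centralizer ({d} : Set G) ≤ M := by
  intro d hd hd1
  rw [hσZ] at hd
  have hz : Subgroup.zpowers d ≠ ⊥ := by
    intro h
    exact hd1 (Subgroup.zpowers_eq_bot.1 h)
  obtain ⟨T0, hT0, hT0p⟩ := pk_exists_prime hz
  have hT0S : T0 ≤ pkS M K := le_trans hT0 ((Subgroup.zpowers_le).2 hd)
  refine le_trans ?_ (hNM T0 hT0S hT0p)
  refine le_trans ?_ (Subgroup.centralizer_le_normalizer (T0 : Set G))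
  intro g hg
  rw [Subgroup.mem_centralizer_iff] at hg ⊢
  have hdg : Commute d g := hg d (Set.mem_singleton d)
  intro t ht
  obtain ⟨n, rfl⟩ := Subgroup.mem_zpowers_iff.1 (hT0 ht)
  exact (hdg.zpow_left n).eq

end Cfsg.Agent.Helper99
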