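import Cfsg.Agent.Helper62.PKDefs

/-!
# helper99: CALL PK piece D5 (`pk_inf_M`).
-/

set_option autoImplicit false

namespace Cfsg.Agent.Helper99

open Cfsg Subgroup Cfsg.Agent.Helper62

universe u

variable {G : Type u} [Group G] [Finite G]

/-- D5 [S]. `M ∩ H = Z` when `M = M_σ K`, `Z ≤ H` and `M_σ ∩ H = K*`. -/
theorem pk_inf_M {M K H : Subgroup G} (hKM : K ≤ M) (hZH : pkZ M K ≤ H)
    (hinf : sigmaCore M ⊓ H = pkS M K)
    (hsup : ∀ m ∈ M, ∃ n ∈ sigmaCore M, ∃ k ∈ K, m = n * k) :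
    M ⊓ H = pkZ M K := by
  have hσM : sigmaCore M ≤ M := Subgroup.map_subtype_le _
  have hKZ : K ≤ pkZ M K := le_sup_left
  have hSZ : pkS M K ≤ pkZ M K := le_sup_right
  apply le_antisymm
  · intro m hm
    obtain ⟨hmM, hmH⟩ := Subgroup.mem_inf.1 hm
    obtain ⟨n, hn, k, hk, rfl⟩ := hsup m hmM
    have hkH : k ∈ H := hZH (hKZ hk)
    have hnH : n ∈ H := by
      have h := Subgroup.mul_mem _ hmH (Subgroup.inv_mem _ hkH)
      rwa [mul_inv_cancel_right] at h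
    have hnS : n ∈ pkS M K := by
      have h : n ∈ sigmaCore M ⊓ H := Subgroup.mem_inf.2 ⟨hn, hnH⟩
      rwa [hinf] at h
    exact Subgroup.mul_mem _ (hSZ hnS) (hKZ hk)
  · refine le_inf ?_ hZH
    exact sup_le hKM (le_trans inf_le_left hσM)

end Cfsg.Agent.Helper99
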