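import Cfsg.Agent.Helper62.PKDefs
import Cfsg.Agent.Helper23.Trans
import Cfsg.Agent.Helper51.Replace

/-!
# helper99: CALL PK piece D8 (`pk_prime_mem`).
-/

set_option autoImplicit false

namespace Cfsg.Agent.Helper99

open Cfsg Subgroup Cfsg.Agent.Helper62

universe u

variable {G : Type u} [Group G] [Finite G]

/-- D8 [S]. A prime `q` of `|Z|` divides `|K*|` (then `q ∈ σ(M)`) or `|K|`. -/
theorem pk_prime_mem {M K : Subgroup G} {q : ℕ} (hq : q.Prime)
    (hqZ : q ∣ Nat.card (pkZ M K)) :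
    q ∈ sigma M ∨ ∃ T : Subgroup G, T ≤ K ∧ Nat.card T = q := by
  have hSK : pkS M K ≤ centralizer (K : Set G) := inf_le_right
  have hnorm : pkS M K ≤ normalizer (K : Set G) :=
    le_trans hSK (Subgroup.centralizer_le_normalizer _)
  have hcard := Cfsg.Agent.Helper51.card_sup_mul_card_inf_of_le_normalizer (pkS M K) K hnorm
  have hdvd : Nat.card (pkZ M K) ∣ Nat.card (pkS M K) * Nat.card K := by
    have h : pkZ M K = pkS M K ⊔ K := sup_comm _ _
    rw [h]
    exact Dvd.intro _ hcard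
  have hq2 : q ∣ Nat.card (pkS M K) * Nat.card K := dvd_trans hqZ hdvd
  rcases (Nat.Prime.dvd_mul hq).1 hq2 with h | h
  · left
    have h2 : q ∣ Nat.card (sigmaCore M) := dvd_trans h (Subgroup.card_dvd_of_le inf_le_left)
    exact Cfsg.Agent.Helper23.mem_of_dvd_card_piCoreOf (sigma M) M hq h2
  · right
    haveI : Fact q.Prime := ⟨hq⟩
    obtain ⟨x, hx⟩ := exists_prime_orderOf_dvd_card' q h
    refine ⟨Subgroup.zpowers (x : G), ?_, ?_⟩
    · rw [Subgroup.zpowers_le]
      exact x.2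
    · rw [Nat.card_zpowers, Subgroup.orderOf_coe]
      exact hx

end Cfsg.Agent.Helper99
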