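import Cfsg.Agent.Helper62.PKDefs
import Cfsg.Agent.Helper23.Trans
import Cfsg.Agent.Helper54.BG14T3

/-!
# helper99: CALL PK piece O2 (`pk_over_inf`).
-/

set_option autoImplicit false

namespace Cfsg.Agent.Helper99

open Cfsg Subgroup Cfsg.Agent.Helper62

universe u

variable {G : Type u} [Group G] [Finite G]

/-- O2 [M]. `M_σ ∩ H_σ = 1` and `M_σ ∩ H = K*`. -/
theorem pk_over_inf {M K H T : Subgroup G} (hTM : T ≤ M) (hT : (Nat.card T).Prime)
    (hTσ : T ≤ sigmaCore H) (hdisj : ∀ q : ℕ, q ∈ sigma M → q ∉ sigma H)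
    (hZH : pkZ M K ≤ H) (hcentT : sigmaCore M ⊓ centralizer (T : Set G) = pkS M K) :
    sigmaCore M ⊓ sigmaCore H = ⊥ ∧ sigmaCore M ⊓ H = pkS M K := by
  have hσσ : sigmaCore M ⊓ sigmaCore H = ⊥ := by
    rw [Subgroup.eq_bot_iff_forall]
    intro x hx
    by_contra hx1
    have hox1 : orderOf x ≠ 1 := fun e => hx1 (orderOf_eq_one_iff.mp e)
    obtain ⟨q, hq, hqx⟩ := Nat.exists_prime_and_dvd hox1
    exact hdisj q (Cfsg.Agent.Helper54.bg14t_mem_sigma_of_dvd hx.1 hq hqx)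
      (Cfsg.Agent.Helper54.bg14t_mem_sigma_of_dvd hx.2 hq hqx)
  refine ⟨hσσ, ?_⟩
  apply le_antisymm
  · intro x hx
    obtain ⟨hxσ, hxH⟩ := Subgroup.mem_inf.1 hx
    rw [← hcentT]
    refine Subgroup.mem_inf.2 ⟨hxσ, ?_⟩
    rw [Subgroup.mem_centralizer_iff]
    intro t ht
    have htT : t ∈ T := ht
    have htM : t ∈ M := hTM htT
    have htσ : t ∈ sigmaCore H := hTσ htT
    have hc1 : x * t * x⁻¹ * t⁻¹ ∈ sigmaCore H := by
      have hxN : x ∈ normalizer (sigmaCore H : Set G) :=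
        Cfsg.Agent.Helper23.le_normalizer_piCoreOf (sigma H) H hxH
      exact (sigmaCore H).mul_mem ((Subgroup.mem_normalizer_iff.mp hxN t).mp htσ)
        ((sigmaCore H).inv_mem htσ)
    have hc2 : x * t * x⁻¹ * t⁻¹ ∈ sigmaCore M := by
      have htN : t ∈ normalizer (sigmaCore M : Set G) :=
        Cfsg.Agent.Helper23.le_normalizer_piCoreOf (sigma M) M htM
      have h1 : t * x⁻¹ * t⁻¹ ∈ sigmaCore M :=
        (Subgroup.mem_normalizer_iff.mp htN x⁻¹).mp ((sigmaCore M).inv_mem hxσ)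
      have e1 : x * t * x⁻¹ * t⁻¹ = x * (t * x⁻¹ * t⁻¹) := by group
      rw [e1]
      exact (sigmaCore M).mul_mem hxσ h1
    have hc3 : x * t * x⁻¹ * t⁻¹ = 1 := by
      have h1 : x * t * x⁻¹ * t⁻¹ ∈ sigmaCore M ⊓ sigmaCore H := ⟨hc2, hc1⟩
      rw [hσσ] at h1
      exact Subgroup.mem_bot.mp h1
    have hxt : x * t = t * x := by
      have e1 : x * t = (x * t * x⁻¹ * t⁻¹) * (t * x) := by group
      rw [e1, hc3, one_mul]
    exact hxt.symm
  · exact le_inf inf_le_left (le_trans le_sup_right hZH)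

end Cfsg.Agent.Helper99
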