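import Cfsg.Agent.Helper62.PKDefs
import Cfsg.Agent.Helper49.BGCDefs2
import Cfsg.Agent.Helper24.BG13V
import Cfsg.Agent.Helper49.OddCyclic
import Cfsg.Agent.Helper23.Trans
import Cfsg.Agent.Helper22.BG10b
import Cfsg.Agent.S1403

/-!
# helper99: CALL PK piece O3 (`pk_over_kappa`).
-/

set_option autoImplicit false

namespace Cfsg.Agent.Helper99

open Cfsg Subgroup Cfsg.Agent.Helper62

universe u

variable {G : Type u} [Group G] [Finite G]

/-- O3 [M]. Every prime `q` of `|K*|` is in `κ(H)`. -/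
theorem pk_over_kappa (hG : IsMinSimpleOddOrder G) {M K H T : Subgroup G}
    (hM : IsCoatom M) (hH : IsCoatom H) (hHM : H ≠ M) (hTM : T ≤ M)
    (hT : (Nat.card T).Prime) (hTσ : T ≤ sigmaCore H)
    (hdisj : ∀ q : ℕ, q ∈ sigma M → q ∉ sigma H) (hZH : pkZ M K ≤ H)
    (hTS : pkS M K ≤ centralizer (T : Set G)) :
    ∀ q : ℕ, q.Prime → q ∣ Nat.card (pkS M K) → q ∈ kappa H := by
  intro q hq hqS
  have hU : Cfsg.Agent.Helper22.BGUniq G :=
    fun K hK h1 h2 => Cfsg.Agent.S1403.result hG K hK h1 h2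
  haveI : Fact q.Prime := ⟨hq⟩
  have hσM : sigmaCore M ≤ M := Subgroup.map_subtype_le _
  have hσH : sigmaCore H ≤ H := Subgroup.map_subtype_le _
  have hSσ : pkS M K ≤ sigmaCore M := inf_le_left
  have hSH : pkS M K ≤ H := le_trans le_sup_right hZH
  -- the subgroup `Y = ⟨y⟩` of order `q`
  obtain ⟨⟨y, hyS⟩, hy0⟩ := exists_prime_orderOf_dvd_card' q hqS
  have hyo : orderOf y = q := by rw [← hy0, Subgroup.orderOf_mk]
  have hYS : Subgroup.zpowers y ≤ pkS M K := (Subgroup.zpowers_le).2 hyS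
  have hYcard : Nat.card (Subgroup.zpowers y) = q := by rw [Nat.card_zpowers]; exact hyo
  have hqσM : q ∈ sigma M :=
    Cfsg.Agent.Helper23.mem_of_dvd_card_piCoreOf (sigma M) M hq
      (dvd_trans hqS (Subgroup.card_dvd_of_le hSσ))
  have hqσH : q ∉ sigma H := hdisj q hqσM
  -- `T` is nontrivial
  have hT1 : T ≠ ⊥ := by
    intro e
    rw [e, Subgroup.card_bot] at hT
    exact Nat.not_prime_one hT
  obtain ⟨⟨t, htT⟩, ht1⟩ := (Subgroup.ne_bot_iff_exists_ne_one).mp hT1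
  have ht1' : t ≠ 1 := fun e => ht1 (Subtype.ext e)
  have htσ : t ∈ sigmaCore H := hTσ htT
  have hty : t * y = y * t := Subgroup.mem_centralizer_iff.1 (hTS hyS) t htT
  have ht2 : q ∉ tau2 H := by
    refine Cfsg.Agent.Helper24.bg13u_star_not_tau2 hG hM hH hHM hqσM hqσH
      (le_trans hYS (le_trans hSσ hσM)) (le_trans hYS hSH) hYcard ?_ ?_
    · intro e
      apply hT1
      rw [eq_bot_iff, ← e]
      refine le_inf hTσ ?_
      intro s hs
      rw [Subgroup.mem_centralizer_iff]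
      intro x hx
      exact (Subgroup.mem_centralizer_iff.mp (hTS (hYS hx)) s hs).symm
    · intro e
      apply hT1
      rw [eq_bot_iff, ← e]
      exact le_inf (le_inf hTM (le_trans hTσ hσH)) hTσ
  have hr2 : PRankLE q 2 ↥H :=
    Cfsg.Agent.Helper22.bg10_pRank_of_not_alpha H q hq
      (fun h' => hqσH (Cfsg.Agent.Helper22.bg10_alpha_sub_sigma hG hU hH h'))
  have hr1 : PRankLE q 1 ↥H := by
    by_contra h'
    exact ht2 ⟨hq, hqσH, hr2, h'⟩
  have hyH : y ∈ H := hSH hyS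
  have hqH : q ∣ Nat.card H := by
    rw [← hYcard]
    exact Subgroup.card_dvd_of_le (le_trans hYS hSH)
  have hq2 : q ≠ 2 := by
    intro e
    have hodd : Odd (Nat.card H) := hG.1.of_dvd_nat (Subgroup.card_subgroup_dvd_card H)
    rw [e] at hqH
    exact (Nat.not_even_iff_odd.2 hodd) (even_iff_two_dvd.2 hqH)
  refine ⟨hq, hqH, hqσH, ?_⟩
  intro P
  refine ⟨Cfsg.Agent.Helper49.isCyclic_sylow_of_pRankLE_one hq2 hr1 P, ?_⟩
  -- an `H`-conjugate of `y` in `P`
  have hyHo : orderOf (⟨y, hyH⟩ : H) = q := by rw [Subgroup.orderOf_mk]; exact hyo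
  have hpg : IsPGroup q (Subgroup.zpowers (⟨y, hyH⟩ : H)) :=
    IsPGroup.of_card (n := 1) (by rw [Nat.card_zpowers, hyHo, pow_one])
  obtain ⟨Q, hQ⟩ := hpg.exists_le_sylow
  obtain ⟨c, hc⟩ := MulAction.exists_smul_eq H Q P
  have hmem : c * (⟨y, hyH⟩ : H) * c⁻¹ ∈ (P : Subgroup H) := by
    rw [← hc, Sylow.coe_subgroup_smul]
    have := Subgroup.smul_mem_pointwise_smul _ (MulAut.conj c) _
      (hQ (Subgroup.mem_zpowers (⟨y, hyH⟩ : H)))
    simpa [MulAut.smul_def] using this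
  have hx : ((c * (⟨y, hyH⟩ : H) * c⁻¹ : H) : G) = (c : G) * y * (c : G)⁻¹ := rfl
  refine ⟨c * (⟨y, hyH⟩ : H) * c⁻¹, hmem, ?_, (c : G) * t * (c : G)⁻¹, ?_, ?_, ?_⟩
  · intro e
    have e2 : (⟨y, hyH⟩ : H) = 1 := conj_eq_one_iff.1 e
    have e3 : orderOf (⟨y, hyH⟩ : H) = 1 := by rw [e2, orderOf_one]
    rw [hyHo] at e3
    exact hq.one_lt.ne' e3
  · have hcN : (c : G) ∈ normalizer (sigmaCore H : Set G) :=
      Cfsg.Agent.Helper23.le_normalizer_piCoreOf (sigma H) H c.2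
    exact (Subgroup.mem_normalizer_iff.mp hcN t).mp htσ
  · intro e
    exact ht1' (conj_eq_one_iff.1 e)
  · rw [hx]
    have e1 : (c : G) * y * (c : G)⁻¹ * ((c : G) * t * (c : G)⁻¹)
        = (c : G) * (y * t) * (c : G)⁻¹ := by group
    have e2 : (c : G) * t * (c : G)⁻¹ * ((c : G) * y * (c : G)⁻¹)
        = (c : G) * (t * y) * (c : G)⁻¹ := by group
    rw [e1, e2, hty]

end Cfsg.Agent.Helper99
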