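import Cfsg.Agent.Helper62.PKDefs
import Cfsg.Agent.Helper72.BG13NB8

/-!
# helper99: CALL PK piece O4 (`pk_over_hall`).
-/

set_option autoImplicit false

namespace Cfsg.Agent.Helper99

open Cfsg Subgroup Cfsg.Agent.Helper62

universe u

variable {G : Type u} [Group G] [Finite G]

/-- O4 [S]. A Hall `κ(H)`-subgroup of `H` containing `K*`. -/
theorem pk_over_hall (hG : IsMinSimpleOddOrder G) {M K H : Subgroup G} (hH : IsCoatom H)
    (hSH : pkS M K ≤ H) (hκ : ∀ q : ℕ, q.Prime → q ∣ Nat.card (pkS M K) → q ∈ kappa H) :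
    ∃ K₁ : Subgroup G, IsPiHallOf (kappa H) K₁ H ∧ pkS M K ≤ K₁ :=
  Cfsg.Agent.Helper72.bg13nb_exists_hall_ge (hG.2.2.2 H hH.1) (kappa H) hSH hκ

end Cfsg.Agent.Helper99
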