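import Cfsg.Agent.Helper62.PKDefs

/-!
# helper99: CALL PK piece O5 (`pk_over_le`).
-/

set_option autoImplicit false

namespace Cfsg.Agent.Helper99

open Cfsg Subgroup Cfsg.Agent.Helper62

universe u

variable {G : Type u} [Group G] [Finite G]

/-- a cyclic subgroup is commutative -/
theorem pko5_comm {K₁ : Subgroup G} (hc : IsCyclic K₁) :
    ∀ a ∈ K₁, ∀ b ∈ K₁, a * b = b * a := by
  intro a ha b hb
  haveI := hc
  obtain ⟨g, hg⟩ := IsCyclic.exists_generator (α := K₁)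
  obtain ⟨m, hm⟩ := Subgroup.mem_zpowers_iff.1 (hg ⟨a, ha⟩)
  obtain ⟨n, hn⟩ := Subgroup.mem_zpowers_iff.1 (hg ⟨b, hb⟩)
  have ea : a = (g : G) ^ m := by
    have h := congrArg Subtype.val hm
    simpa using h.symm
  have eb : b = (g : G) ^ n := by
    have h := congrArg Subtype.val hn
    simpa using h.symm
  rw [ea, eb, ← zpow_add, ← zpow_add, add_comm]

/-- O5 [M]. `K₁` a cyclic Hall `κ(H)`-subgroup of `H` containing `K*`.  Then `K₁ ≤ Z`,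
`T ≤ K₁* = pkS H K₁` and `K ≤ Z₁ = pkZ H K₁`. -/
theorem pk_over_le {M K H T K₁ T0 : Subgroup G} (hK₁c : IsCyclic K₁)
    (hle : pkS M K ≤ K₁) (hS1 : pkS M K ≠ ⊥) (hTK : T ≤ K) (hT : (Nat.card T).Prime)
    (hTσ : T ≤ sigmaCore H) (hZH : pkZ M K ≤ H)
    (hT0 : T0 ≤ pkS M K) (hT0p : (Nat.card T0).Prime) (hNM : normalizer (T0 : Set G) ≤ M)
    (hcent : ∀ k ∈ K, k ≠ 1 → M ⊓ centralizer ({k} : Set G) = pkZ M K)
    (hcent₁ : ∀ k ∈ K₁, k ≠ 1 → H ⊓ centralizer ({k} : Set G) = pkZ H K₁)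
    (hσZ₁ : sigmaCore H ⊓ pkZ H K₁ = pkS H K₁) :
    K₁ ≤ pkZ M K ∧ T ≤ pkS H K₁ ∧ K ≤ pkZ H K₁ := by
  have hcomm := pko5_comm hK₁c
  have hK₁M : K₁ ≤ M := fun a ha =>
    hNM (Subgroup.centralizer_le_normalizer _
      (Subgroup.mem_centralizer_iff.2 fun h hh => hcomm h (hle (hT0 hh)) a ha))
  obtain ⟨y, hy, hy1⟩ : ∃ y ∈ pkS M K, y ≠ 1 := by
    by_contra hcon
    push_neg at hcon
    exact hS1 ((Subgroup.eq_bot_iff_forall _).2 hcon)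
  have hyK : ∀ k ∈ K, k * y = y * k := fun k hk =>
    (Subgroup.mem_centralizer_iff.1 (Subgroup.mem_inf.1 hy).2) k hk
  have hZ₁ := hcent₁ y (hle hy) hy1
  have hKH : K ≤ H := le_sup_left.trans hZH
  have hKZ₁ : K ≤ pkZ H K₁ := by
    intro k hk
    rw [← hZ₁]
    refine Subgroup.mem_inf.2 ⟨hKH hk, ?_⟩
    rw [Subgroup.mem_centralizer_iff]
    intro h hh
    rw [Set.mem_singleton_iff] at hh
    rw [hh]
    exact (hyK k hk).symm
  have hTS₁ : T ≤ pkS H K₁ := by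
    intro t ht
    rw [← hσZ₁]
    exact Subgroup.mem_inf.2 ⟨hTσ ht, hKZ₁ (hTK ht)⟩
  refine ⟨?_, hTS₁, hKZ₁⟩
  have hT1 : T ≠ ⊥ := by
    rintro rfl
    rw [Subgroup.card_bot] at hT
    exact Nat.not_prime_one hT
  obtain ⟨t, htT, ht1⟩ : ∃ t ∈ T, t ≠ 1 := by
    by_contra hcon
    push_neg at hcon
    exact hT1 ((Subgroup.eq_bot_iff_forall T).2 hcon)
  have htc : ∀ a ∈ K₁, a * t = t * a := fun a ha =>
    (Subgroup.mem_centralizer_iff.1 (Subgroup.mem_inf.1 (hTS₁ htT)).2) a ha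
  intro a ha
  rw [← hcent t (hTK htT) ht1]
  refine Subgroup.mem_inf.2 ⟨hK₁M ha, ?_⟩
  rw [Subgroup.mem_centralizer_iff]
  intro h hh
  rw [Set.mem_singleton_iff] at hh
  rw [hh]
  exact (htc a ha).symm

end Cfsg.Agent.Helper99
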