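import Mathlib
import Cfsg.Agent.Helper99.QuadPair

set_option autoImplicit false
set_option linter.unusedSimpArgs false

namespace Cfsg.Agent.Helper99

open Matrix

theorem dl_section_of_hom_spec {G H S : Type*} [Group G] [Group H] [Group S] (ψ : G →* H)
    (F : S →* H) (hF : Function.Injective F) (G0 : Subgroup G) (hle : F.range ≤ G0.map ψ) :
    ∃ (K : Subgroup G) (f : K →* S), K ≤ G0 ∧ Function.Surjective f ∧
      ∀ k : K, ψ (k : G) = F (f k) := by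
  have hK : ∀ k : (G0 ⊓ F.range.comap ψ : Subgroup G),
      (ψ.comp (G0 ⊓ F.range.comap ψ : Subgroup G).subtype) k ∈ F.range := fun k => k.2.2
  refine ⟨G0 ⊓ F.range.comap ψ,
    (MonoidHom.ofInjective hF).symm.toMonoidHom.comp
      ((ψ.comp (G0 ⊓ F.range.comap ψ : Subgroup G).subtype).codRestrict F.range hK),
    inf_le_left, ?_, ?_⟩
  · intro s
    obtain ⟨k, hk, hks⟩ := hle ⟨s, rfl⟩
    have hk2 : k ∈ F.range.comap ψ := by
      rw [Subgroup.mem_comap, hks]; exact ⟨s, rfl⟩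
    refine ⟨⟨k, hk, hk2⟩, ?_⟩
    apply (MonoidHom.ofInjective hF).injective
    apply Subtype.ext
    simp [hks, MonoidHom.ofInjective_apply]
  · intro k
    have h1 : ((MonoidHom.ofInjective hF)
        ((MonoidHom.ofInjective hF).symm ⟨ψ (k : G), k.2.2⟩) : H) = ψ (k : G) := by
      rw [MulEquiv.apply_symm_apply]
    rw [MonoidHom.ofInjective_apply] at h1
    exact h1.symm

theorem dl_section_map_spec {G G' S : Type*} [Group G] [Group G'] [Group S] (j : G →* G')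
    (hj : Function.Injective j) (G0 K : Subgroup G) (f : K →* S) (hK : K ≤ G0)
    (hf : Function.Surjective f) :
    ∃ (K' : Subgroup G') (f' : K' →* S), K' ≤ G0.map j ∧ Function.Surjective f' ∧
      ∀ k' : K', ∃ k : K, j (k : G) = (k' : G') ∧ f k = f' k' := by
  refine ⟨K.map j, f.comp (K.equivMapOfInjective j hj).symm.toMonoidHom,
    Subgroup.map_mono hK, hf.comp (K.equivMapOfInjective j hj).symm.surjective, ?_⟩
  intro k'
  refine ⟨(K.equivMapOfInjective j hj).symm k', ?_, rfl⟩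
  have := Subgroup.coe_equivMapOfInjective_apply K j hj ((K.equivMapOfInjective j hj).symm k')
  rw [MulEquiv.apply_symm_apply] at this
  exact this.symm

theorem dl_section_comap_spec {G H S : Type*} [Group G] [Group H] [Group S] (ρ : G →* H)
    (G0 : Subgroup G) (K' : Subgroup H) (f' : K' →* S) (hK' : K' ≤ G0.map ρ)
    (hf' : Function.Surjective f') :
    ∃ (K : Subgroup G) (f : K →* S), K ≤ G0 ∧ Function.Surjective f ∧
      ∀ k : K, ∃ k' : K', (k' : H) = ρ (k : G) ∧ f k = f' k' := by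
  have hK : ∀ k : (G0 ⊓ K'.comap ρ : Subgroup G),
      (ρ.comp (G0 ⊓ K'.comap ρ : Subgroup G).subtype) k ∈ K' := fun k => k.2.2
  refine ⟨G0 ⊓ K'.comap ρ,
    f'.comp ((ρ.comp (G0 ⊓ K'.comap ρ : Subgroup G).subtype).codRestrict K' hK),
    inf_le_left, ?_, ?_⟩
  · intro s
    obtain ⟨k', rfl⟩ := hf' s
    obtain ⟨k, hk, hkk⟩ := hK' k'.2
    have hk2 : k ∈ K'.comap ρ := by
      rw [Subgroup.mem_comap, hkk]; exact k'.2
    refine ⟨⟨k, hk, hk2⟩, ?_⟩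
    simp only [MonoidHom.coe_comp, Function.comp_apply]
    congr 1
    apply Subtype.ext
    exact hkk
  · intro k
    exact ⟨⟨ρ (k : G), k.2.2⟩, rfl, rfl⟩

namespace QPData

variable {E Z : Type*} [Ring E] [CommRing Z] (D : QPData E Z)

/-- the column vector `(v₁, v₂)ᵀ` inside the corner: `v₁ E₁₁ + v₂ E₂₁` -/
def col (v₁ v₂ : Z) : E := D.Ξ 0 0 (v₂ * D.δ) (v₁ * D.δ)

theorem Ψ_col (M : Matrix (Fin 2) (Fin 2) Z) (v₁ v₂ : Z) :
    D.Ψ M * D.col v₁ v₂ = D.col (M 0 0 * v₁ + M 0 1 * v₂) (M 1 0 * v₁ + M 1 1 * v₂) := by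
  unfold Ψ col
  rw [D.Ξ_mul]
  have h1 := D.hεε
  have h2 := D.hδε
  have h3 := D.hδγ
  apply D.Ξ_congr <;> grind

theorem ε_col (v₁ v₂ : Z) : D.ι D.ε * D.col v₁ v₂ = D.col v₁ v₂ := by
  unfold col
  rw [D.ι_Ξ]
  have h2 := D.hδε
  apply D.Ξ_congr <;> grind

theorem col_lin (z z' v₁ v₂ v₁' v₂' : Z) :
    D.col (z * v₁ + z' * v₁') (z * v₂ + z' * v₂') =
      D.ι z * D.col v₁ v₂ + D.ι z' * D.col v₁' v₂' := by
  unfold col
  rw [D.ι_Ξ, D.ι_Ξ, D.Ξ_add]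
  apply D.Ξ_congr <;> ring

theorem col_ne_zero (hne : D.ι D.ε ≠ 0) (v₁ v₂ r₁ r₂ : Z) (h : r₁ * v₁ + r₂ * v₂ = 1) :
    D.col v₁ v₂ ≠ 0 := by
  intro h0
  apply hne
  apply D.ε_eq_zero_of_a
  have h1 : D.Ψ !![r₁, r₂; 0, 0] * D.col v₁ v₂ = D.col 1 0 := by
    rw [D.Ψ_col]
    congr 1
    simp [h]
  rw [h0, mul_zero] at h1
  have e : D.col 1 0 = D.ι D.δ * (D.a * D.b) := by simp [col, Ξ]
  have h2 : D.ι D.δ * (D.a * D.b) = 0 := by rw [← e, ← h1]
  have h3 : D.ε = D.δ * D.γ := D.hδγ.symm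
  rw [h3, map_mul, mul_assoc, ← D.hγ, add_mul, mul_assoc D.b, D.haa, mul_zero, add_zero,
    ← mul_assoc, h2, zero_mul]

/-- **Section theorem with the natural module.** -/
theorem section_of_data_nat [Finite Z] (p : ℕ) [Fact p.Prime] [CharP Z p] (hp : p ≠ 2)
    (hne : D.ι D.ε ≠ 0) (x y : Eˣ) (hx : (x : E) = 1 + D.a) (hy : (y : E) = 1 + D.b) :
    ∃ (K : Subgroup Eˣ) (f : K →* Matrix.SpecialLinearGroup (Fin 2) (ZMod p)) (w₁ w₂ w₃ : E),
      K ≤ Subgroup.closure {x, y} ∧ Function.Surjective f ∧ w₁ ≠ 0 ∧ w₃ * w₁ = 0 ∧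
      w₃ * w₂ = w₁ ∧
      ∀ k : K,
        ((k : Eˣ) : E) * w₁ = D.ι (ZMod.castHom (dvd_refl p) Z ((f k).1 0 0)) * w₁ +
            D.ι (ZMod.castHom (dvd_refl p) Z ((f k).1 1 0)) * w₂ ∧
        ((k : Eˣ) : E) * w₂ = D.ι (ZMod.castHom (dvd_refl p) Z ((f k).1 0 1)) * w₁ +
            D.ι (ZMod.castHom (dvd_refl p) Z ((f k).1 1 1)) * w₂ := by
  obtain ⟨g, hg1, hg2⟩ := dl_good p hp _ D.lam D.li D.lam_li le_rfl
  set F : Matrix.SpecialLinearGroup (Fin 2) (ZMod p) →* Eˣ :=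
    (Units.map D.Ψhom).comp ((MulAut.conj g).toMonoidHom.comp (dlIota p Z)) with hF
  have hFinj : Function.Injective F := by
    rw [injective_iff_map_eq_one]
    intro s hs
    have h1 : Units.map D.Ψhom (dlIota p Z s) = 1 := by
      have e : F s = Units.map D.Ψhom g * Units.map D.Ψhom (dlIota p Z s) *
          (Units.map D.Ψhom g)⁻¹ := by
        simp [hF, MulAut.conj_apply]
      rw [e] at hs
      have := congrArg (fun w => (Units.map D.Ψhom g)⁻¹ * w * Units.map D.Ψhom g) hs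
      simpa [mul_assoc] using this
    apply D.Ψ_iota_eq_one p hne
    have := congrArg (fun u : Eˣ => (u : E)) h1
    have h2 : D.Ψhom ((dlIota p Z s).1) = 1 := by simpa using this
    exact h2
  have hxC : x ∈ D.C := by
    rw [D.mem_C, hx, add_mul, mul_add, one_mul, mul_one, D.hιa]
  have hyC : y ∈ D.C := by
    rw [D.mem_C, hy, add_mul, mul_add, one_mul, mul_one, D.hιb]
  have hψx : D.ψ ⟨x, hxC⟩ = Units.map D.Ψhom (dlX 1) := by
    apply Units.ext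
    rw [D.Ψ_X, D.ψ_val]
    simp only [hx]
    noncomm_ring
  have hψy : D.ψ ⟨y, hyC⟩ = Units.map D.Ψhom (dlY D.lam) := by
    apply Units.ext
    rw [D.Ψ_Y, D.ψ_val]
    simp only [hy]
    noncomm_ring
  have hle : F.range ≤ (Subgroup.closure {(⟨x, hxC⟩ : D.C), ⟨y, hyC⟩}).map D.ψ := by
    rw [MonoidHom.map_closure, Set.image_pair, hψx, hψy]
    have e : Subgroup.closure {Units.map D.Ψhom (dlX 1), Units.map D.Ψhom (dlY D.lam)} =
        (dlL D.lam).map (Units.map D.Ψhom) := by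
      rw [dlL, MonoidHom.map_closure, Set.image_pair]
    rw [e, MonoidHom.range_eq_map, ← sl2_zmod_closure p, MonoidHom.map_closure,
      Subgroup.closure_le]
    rintro _ ⟨s, hs, rfl⟩
    rcases hs with rfl | rfl
    · refine ⟨g * dlX 1 * g⁻¹, hg1, ?_⟩
      simp [hF, MulAut.conj_apply, dlIota_X]
    · refine ⟨g * dlY (-1) * g⁻¹, hg2, ?_⟩
      simp [hF, MulAut.conj_apply, dlIota_Y]
  obtain ⟨K, f, hK, hf, hspec⟩ := dl_section_of_hom_spec D.ψ F hFinj _ hle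
  obtain ⟨K', f', hK', hf', hspec'⟩ :=
    dl_section_map_spec D.C.subtype (Subgroup.subtype_injective _) _ K f hK hf
  have hFval : ∀ s, ((F s : Eˣ) : E) =
      D.Ψ (g.1 * (dlIota p Z s).1 * (g⁻¹ : GL (Fin 2) Z).1) := by
    intro s
    rfl
  have hinv : (g⁻¹ : GL (Fin 2) Z).1 * g.1 = 1 := by
    rw [← Units.val_mul, inv_mul_cancel, Units.val_one]
  have key : ∀ (M : Matrix (Fin 2) (Fin 2) Z) (j : Fin 2),
      D.Ψ (g.1 * M * (g⁻¹ : GL (Fin 2) Z).1) * D.col (g.1 0 j) (g.1 1 j) =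
        D.ι (M 0 j) * D.col (g.1 0 0) (g.1 1 0) + D.ι (M 1 j) * D.col (g.1 0 1) (g.1 1 1) := by
    intro M j
    rw [D.Ψ_col, ← D.col_lin]
    have e : g.1 * M * (g⁻¹ : GL (Fin 2) Z).1 * g.1 = g.1 * M := by
      rw [mul_assoc, hinv, mul_one]
    have e0 : (g.1 * M * (g⁻¹ : GL (Fin 2) Z).1) 0 0 * g.1 0 j +
        (g.1 * M * (g⁻¹ : GL (Fin 2) Z).1) 0 1 * g.1 1 j =
        g.1 0 0 * M 0 j + g.1 0 1 * M 1 j := by
      have := congrFun (congrFun e 0) j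
      rw [Matrix.mul_apply, Fin.sum_univ_two, Matrix.mul_apply (M := g.1) (N := M),
        Fin.sum_univ_two] at this
      exact this
    have e1 : (g.1 * M * (g⁻¹ : GL (Fin 2) Z).1) 1 0 * g.1 0 j +
        (g.1 * M * (g⁻¹ : GL (Fin 2) Z).1) 1 1 * g.1 1 j =
        g.1 1 0 * M 0 j + g.1 1 1 * M 1 j := by
      have := congrFun (congrFun e 1) j
      rw [Matrix.mul_apply, Fin.sum_univ_two, Matrix.mul_apply (M := g.1) (N := M),
        Fin.sum_univ_two] at this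
      exact this
    rw [e0, e1]
    congr 1 <;> ring
  refine ⟨K', f', D.col (g.1 0 0) (g.1 1 0), D.col (g.1 0 1) (g.1 1 1),
    D.Ψ (g.1 * (dlX (1 : Z)).1 * (g⁻¹ : GL (Fin 2) Z).1) - 1, ?_, hf', ?_, ?_, ?_, ?_⟩
  · rw [MonoidHom.map_closure, Set.image_pair] at hK'
    exact hK'
  · apply D.col_ne_zero hne _ _ ((g⁻¹ : GL (Fin 2) Z).1 0 0) ((g⁻¹ : GL (Fin 2) Z).1 0 1)
    have := congrFun (congrFun hinv 0) 0
    rw [Matrix.mul_apply, Fin.sum_univ_two] at this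
    simpa using this
  · rw [sub_mul, one_mul, key _ 0]
    simp [dlX]
  · rw [sub_mul, one_mul, key _ 1]
    simp [dlX]
  · intro k'
    obtain ⟨k, hk1, hk2⟩ := hspec' k'
    have hs := hspec k
    have hs' : D.ι D.ε * (((k : D.C) : Eˣ) : E) + (1 - D.ι D.ε) =
        D.Ψ (g.1 * (dlIota p Z (f k)).1 * (g⁻¹ : GL (Fin 2) Z).1) := by
      rw [← D.ψ_val, hs, hFval]
    have hkC : (((k : D.C) : Eˣ) : E) * D.ι D.ε = D.ι D.ε * (((k : D.C) : Eˣ) : E) :=
      (k : D.C).2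
    have hk1' : ((k' : Eˣ) : E) = (((k : D.C) : Eˣ) : E) := by rw [← hk1]; rfl
    have hact : ∀ v₁ v₂ : Z, ((k' : Eˣ) : E) * D.col v₁ v₂ =
        D.Ψ (g.1 * (dlIota p Z (f k)).1 * (g⁻¹ : GL (Fin 2) Z).1) * D.col v₁ v₂ := by
      intro v₁ v₂
      calc ((k' : Eˣ) : E) * D.col v₁ v₂
          = (((k : D.C) : Eˣ) : E) * (D.ι D.ε * D.col v₁ v₂) := by rw [D.ε_col, hk1']
        _ = (D.ι D.ε * (((k : D.C) : Eˣ) : E) + (1 - D.ι D.ε)) * D.col v₁ v₂ := by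
            rw [← mul_assoc, hkC, add_mul, sub_mul, one_mul, D.ε_col, sub_self, add_zero]
        _ = _ := by rw [hs']
    rw [← hk2]
    constructor
    · rw [hact, key _ 0]
      rfl
    · rw [hact, key _ 1]
      rfl

end QPData

theorem qp_cast_smul {E Z : Type*} [Ring E] [CommRing Z] (p : ℕ) [Fact p.Prime] [CharP Z p]
    (ι : Z →+* E) (s : ZMod p) (w : E) :
    ι (ZMod.castHom (dvd_refl p) Z s) * w = s.val • w := by
  have : NeZero p := ⟨(Fact.out : p.Prime).ne_zero⟩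
  rw [ZMod.castHom_apply, ← ZMod.natCast_val, map_natCast, nsmul_eq_mul]

section Inst

variable {E : Type*} [Ring E]

/-- **Quadratic pairs with the natural module** (ring form). As `quadPair_section`, and in
addition elements `w₁ w₂ w₃` of `E` with `w₁ ≠ 0`, `w₃ w₁ = 0`, `w₃ w₂ = w₁` such that every
`k ∈ K` acts on `(w₁, w₂)` by left multiplication through the matrix `f k`:
`k w₁ = A₀₀ w₁ + A₁₀ w₂`, `k w₂ = A₀₁ w₁ + A₁₁ w₂`. -/
theorem quadPair_section_nat [Finite E] (p : ℕ) [Fact p.Prime] [CharP E p] (hp : p ≠ 2)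
    (x y : Eˣ)
    (hx : ((x : E) - 1) * ((x : E) - 1) = 0) (hy : ((y : E) - 1) * ((y : E) - 1) = 0)
    (hnp : ¬ IsPGroup p (Subgroup.closure {x, y})) :
    ∃ (K : Subgroup Eˣ) (f : K →* Matrix.SpecialLinearGroup (Fin 2) (ZMod p)) (w₁ w₂ w₃ : E),
      K ≤ Subgroup.closure {x, y} ∧ Function.Surjective f ∧ w₁ ≠ 0 ∧ w₃ * w₁ = 0 ∧
      w₃ * w₂ = w₁ ∧
      ∀ k : K,
        ((k : Eˣ) : E) * w₁ = ((f k).1 0 0).val • w₁ + ((f k).1 1 0).val • w₂ ∧
        ((k : Eˣ) : E) * w₂ = ((f k).1 0 1).val • w₁ + ((f k).1 1 1).val • w₂ := by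
  have hxa : (x : E) = 1 + ((x : E) - 1) := by abel
  have hyb : (y : E) = 1 + ((y : E) - 1) := by abel
  generalize (x : E) - 1 = a at hx hxa
  generalize (y : E) - 1 = b at hy hyb
  have hchar : CharP (qpZ a b) p := RingHom.charP (qpι a b) (qpι_injective a b) p
  obtain ⟨N, hN1, hidem⟩ := dl_exists_idem_pow (qpγ a b)
  have hιa : ∀ z, a * qpι a b z = qpι a b z * a := qpι_comm a b a (qpc_comm_a a b hx)
  have hιb : ∀ z, b * qpι a b z = qpι a b z * b := qpι_comm a b b (qpc_comm_b a b hy)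
  by_cases hz : qpγ a b ^ N = 0
  · exfalso
    apply hnp
    let D : QPData E (qpZ a b) :=
      { ι := qpι a b, a := a, b := b, γ := qpγ a b, ε := 0, δ := 0, haa := hx, hbb := hy,
        hιa := hιa, hιb := hιb, hγ := rfl, hεε := by simp, hδε := by simp, hδγ := by simp }
    refine D.isPGroup_of_nil p N ?_ x y hxa hyb
    change qpι a b (qpγ a b) ^ N = 0
    rw [← map_pow, hz, map_zero]
  · let D : QPData E (qpZ a b) :=
      { ι := qpι a b, a := a, b := b, γ := qpγ a b, ε := qpγ a b ^ N,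
        δ := qpγ a b ^ (2 * N - 1), haa := hx, hbb := hy,
        hιa := hιa, hιb := hιb, hγ := rfl, hεε := hidem,
        hδε := by
          rw [show 2 * N - 1 = (N - 1) + N by omega, pow_add, mul_assoc, hidem]
        hδγ := by
          rw [← pow_succ, show 2 * N - 1 + 1 = N + N by omega, pow_add, hidem] }
    have hne : D.ι D.ε ≠ 0 := by
      change qpι a b (qpγ a b ^ N) ≠ 0
      intro h0
      apply hz
      apply qpι_injective a b
      rw [h0, map_zero]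
    obtain ⟨K, f, w₁, w₂, w₃, hK, hf, h1, h2, h3, h4⟩ :=
      D.section_of_data_nat p hp hne x y hxa hyb
    refine ⟨K, f, w₁, w₂, w₃, hK, hf, h1, h2, h3, ?_⟩
    intro k
    obtain ⟨h5, h6⟩ := h4 k
    rw [qp_cast_smul, qp_cast_smul] at h5 h6
    exact ⟨h5, h6⟩

/-- Pulled-back version of `quadPair_section_nat` along `ρ : X →* Eˣ`. -/
theorem quadPair_section_nat_hom {X : Type*} [Group X] [Finite E] (p : ℕ) [Fact p.Prime]
    [CharP E p] (hp : p ≠ 2) (ρ : X →* Eˣ) (g₁ g₂ : X)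
    (h₁ : (((ρ g₁ : Eˣ) : E) - 1) * (((ρ g₁ : Eˣ) : E) - 1) = 0)
    (h₂ : (((ρ g₂ : Eˣ) : E) - 1) * (((ρ g₂ : Eˣ) : E) - 1) = 0)
    (hnp : ¬ IsPGroup p (Subgroup.closure {ρ g₁, ρ g₂})) :
    ∃ (K : Subgroup X) (f : K →* Matrix.SpecialLinearGroup (Fin 2) (ZMod p)) (w₁ w₂ w₃ : E),
      K ≤ Subgroup.closure {g₁, g₂} ∧ Function.Surjective f ∧ w₁ ≠ 0 ∧ w₃ * w₁ = 0 ∧
      w₃ * w₂ = w₁ ∧
      ∀ k : K,
        ((ρ (k : X) : Eˣ) : E) * w₁ = ((f k).1 0 0).val • w₁ + ((f k).1 1 0).val • w₂ ∧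
        ((ρ (k : X) : Eˣ) : E) * w₂ = ((f k).1 0 1).val • w₁ + ((f k).1 1 1).val • w₂ := by
  obtain ⟨K', f', w₁, w₂, w₃, hK', hf', hw1, hw2, hw3, hact⟩ :=
    quadPair_section_nat p hp (ρ g₁) (ρ g₂) h₁ h₂ hnp
  have e : Subgroup.closure {ρ g₁, ρ g₂} = (Subgroup.closure {g₁, g₂}).map ρ := by
    rw [MonoidHom.map_closure, Set.image_pair]
  rw [e] at hK'
  obtain ⟨K, f, hK, hf, hspec⟩ := dl_section_comap_spec ρ _ K' f' hK' hf'
  refine ⟨K, f, w₁, w₂, w₃, hK, hf, hw1, hw2, hw3, ?_⟩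
  intro k
  obtain ⟨k', hk1, hk2⟩ := hspec k
  rw [hk2, ← hk1]
  exact hact k'

/-- Version of `quadPair_section_nat_hom` for a faithful action. -/
theorem quadPair_section_nat_hom' {X : Type*} [Group X] [Finite E] (p : ℕ) [Fact p.Prime]
    [CharP E p] (hp : p ≠ 2) (ρ : X →* Eˣ) (hρ : Function.Injective ρ) (g₁ g₂ : X)
    (h₁ : (((ρ g₁ : Eˣ) : E) - 1) * (((ρ g₁ : Eˣ) : E) - 1) = 0)
    (h₂ : (((ρ g₂ : Eˣ) : E) - 1) * (((ρ g₂ : Eˣ) : E) - 1) = 0)
    (hnp : ¬ IsPGroup p (Subgroup.closure {g₁, g₂})) :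
    ∃ (K : Subgroup X) (f : K →* Matrix.SpecialLinearGroup (Fin 2) (ZMod p)) (w₁ w₂ w₃ : E),
      K ≤ Subgroup.closure {g₁, g₂} ∧ Function.Surjective f ∧ w₁ ≠ 0 ∧ w₃ * w₁ = 0 ∧
      w₃ * w₂ = w₁ ∧
      ∀ k : K,
        ((ρ (k : X) : Eˣ) : E) * w₁ = ((f k).1 0 0).val • w₁ + ((f k).1 1 0).val • w₂ ∧
        ((ρ (k : X) : Eˣ) : E) * w₂ = ((f k).1 0 1).val • w₁ + ((f k).1 1 1).val • w₂ := by
  apply quadPair_section_nat_hom p hp ρ g₁ g₂ h₁ h₂
  intro hP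
  apply hnp
  have e : Subgroup.closure {ρ g₁, ρ g₂} = (Subgroup.closure {g₁, g₂}).map ρ := by
    rw [MonoidHom.map_closure, Set.image_pair]
  rw [e] at hP
  exact hP.of_equiv ((Subgroup.closure {g₁, g₂}).equivMapOfInjective ρ hρ).symm

end Inst

end Cfsg.Agent.Helper99
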