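import Mathlib

set_option autoImplicit false

/-!
# Sub-CALL S90T2 (helper98; row S5990), piece ARITH (`t2_arith`), pure `ℕ`.
-/

namespace Cfsg.Agent.Helper99.S90T2

/-- ARITH [M, pure ℕ]: choose `e' := 1 + 2 e''`; `t - 1 = 2 u + h'` with `u = a' + e''`.  If `t` is
odd: `h' = 0` or fill with `h`; if `d` is even then `h` is odd (`e` odd), so a hyperbolic plane fixes
the parity. -/
theorem t2_arith (d t A h e : ℕ) (hsum : 2 * A + h + e = d) (he : Odd e) (ht1 : 1 ≤ t)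
    (htd : t + 1 ≤ d) (hcond : Even d ∨ Odd t) :
    ∃ a' h' e', a' ≤ A ∧ h' ≤ h ∧ e' ≤ e ∧ Odd e' ∧ 2 * a' + h' + e' = t := by
  obtain ⟨k, hk⟩ := he
  rcases Nat.even_or_odd t with hte | hto
  · have hde : Even d := by
      rcases hcond with h1 | h1
      · exact h1
      · exact absurd hte (Nat.not_even_iff_odd.2 h1)
    obtain ⟨s, hs⟩ := hte
    obtain ⟨D, hD⟩ := hde
    by_cases c1 : t - 1 ≤ e
    · exact ⟨0, 1, t - 1, by omega, by omega, by omega, ⟨s - 1, by omega⟩, by omega⟩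
    · by_cases c2 : t - e ≤ h
      · exact ⟨0, t - e, e, by omega, by omega, le_refl _, ⟨k, hk⟩, by omega⟩
      · exact ⟨(t - e - h) / 2, h, e, by omega, le_refl _, le_refl _, ⟨k, hk⟩, by omega⟩
  · obtain ⟨s, hs⟩ := hto
    by_cases c1 : t ≤ e
    · exact ⟨0, 0, t, by omega, by omega, c1, ⟨s, hs⟩, by omega⟩
    · by_cases c2 : t - e ≤ h
      · exact ⟨0, t - e, e, by omega, c2, le_refl _, ⟨k, hk⟩, by omega⟩
      · exact ⟨(t - e - 2 * (h / 2)) / 2, 2 * (h / 2), e, by omega, by omega, le_refl _,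
          ⟨k, hk⟩, by omega⟩

end Cfsg.Agent.Helper99.S90T2
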