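import Mathlib
import Cfsg.Agent.Helper21.SPDefs

set_option autoImplicit false

namespace Cfsg.Agent.Helper99.SPBR

open Cfsg.Agent.Helper83 Cfsg.Agent.Helper21.SP

/-- conjugating a Weyl element factor by factor. -/
theorem br_conj_w {K : Type*} [Field K] {Γ : Type*} [Group Γ] (W : Γ) (X Y X' Y' : K → Γ)
    (t t' : K) (h1 : W * X t * W⁻¹ = X' t') (h2 : W * Y (-t⁻¹) * W⁻¹ = Y' (-t'⁻¹)) :
    W * stW X Y t * W⁻¹ = stW X' Y' t' := by
  unfold stW
  rw [← h1, ← h2]; group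

theorem br_of_base {K : Type*} [Field K] {n : ℕ} {Γ : Type*} [Group Γ]
    {x : Fin n → Fin n → K → Γ} (hb : Base x) :
    ∀ i j k, i ≠ j → i ≠ k → j ≠ k →
      (stW (x i j) (x j i) 1)⁻¹ * stW (x j k) (x k j) 1 * stW (x i j) (x j i) 1 =
        stW (x j k) (x k j) 1 * stW (x i j) (x j i) 1 * (stW (x j k) (x k j) 1)⁻¹ := by
  intro i j k hij hik hjk
  have hrij := hb.rk i j hij
  have hm1 : (-1 : K) ≠ 0 := neg_ne_zero.mpr one_ne_zero
  have L : stW (x i j) (x j i) (-1) * stW (x j k) (x k j) 1 * (stW (x i j) (x j i) (-1))⁻¹ =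
      stW (x i k) (x k i) (-1) := by
    apply br_conj_w
    · exact (hb.wt.w2 i j k hij hik hjk (-1) 1 hm1).trans (by congr 1; simp)
    · exact (hb.wt.w4 i j k hij hik hjk (-1) (-(1 : K)⁻¹) hm1).trans (by congr 1; simp [inv_neg])
  have R : stW (x j k) (x k j) 1 * stW (x i j) (x j i) 1 * (stW (x j k) (x k j) 1)⁻¹ =
      stW (x i k) (x k i) (-1) := by
    apply br_conj_w
    · exact (hb.wt.w3 j k i hjk hij.symm hik.symm 1 1 one_ne_zero).trans (by congr 1; simp)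
    · exact (hb.wt.w1 j k i hjk hij.symm hik.symm 1 (-(1 : K)⁻¹) one_ne_zero).trans
        (by congr 1; simp [inv_neg])
  have hinv : (stW (x i j) (x j i) 1)⁻¹ = stW (x i j) (x j i) (-1) := hrij.w_inv 1
  have hinv2 : stW (x i j) (x j i) 1 = (stW (x i j) (x j i) (-1))⁻¹ := by rw [← hinv, inv_inv]
  rw [R]
  calc (stW (x i j) (x j i) 1)⁻¹ * stW (x j k) (x k j) 1 * stW (x i j) (x j i) 1
      = stW (x i j) (x j i) (-1) * stW (x j k) (x k j) 1 * (stW (x i j) (x j i) (-1))⁻¹ := by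
        rw [hinv]; rw [← hinv, inv_inv]
    _ = _ := L

end Cfsg.Agent.Helper99.SPBR
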