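import Mathlib
import Cfsg.Agent.Helper21.SPDefs

set_option autoImplicit false

namespace Cfsg.Agent.Helper99.SPT2

open Cfsg.Agent.Helper83 Cfsg.Agent.Helper21.SP

/-- conjugating a Weyl element factor by factor. -/
theorem t2_conj_w {K : Type*} [Field K] {Γ : Type*} [Group Γ] (W : Γ) (X Y X' Y' : K → Γ)
    (t t' : K) (h1 : W * X t * W⁻¹ = X' t') (h2 : W * Y (-t⁻¹) * W⁻¹ = Y' (-t'⁻¹)) :
    W * stW X Y t * W⁻¹ = stW X' Y' t' := by
  unfold stW
  rw [← h1, ← h2]; group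

theorem t2_of_base {K : Type*} [Field K] {n : ℕ} {Γ : Type*} [Group Γ]
    {x : Fin n → Fin n → K → Γ} (hb : Base x) :
    ∀ i j k, i ≠ j → i ≠ k → j ≠ k → ∀ c, c ≠ 0 →
      stW (x i j) (x j i) 1 * stH (x i k) (x k i) c * (stW (x i j) (x j i) 1)⁻¹ =
        stH (x j k) (x k j) c := by
  intro i j k hij hik hjk c hc
  have hW : ∀ s : K, s ≠ 0 → stW (x i j) (x j i) 1 * stW (x i k) (x k i) s *
      (stW (x i j) (x j i) 1)⁻¹ = stW (x j k) (x k j) (-s) := by
    intro s _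
    apply t2_conj_w
    · exact (hb.wt.w1 i j k hij hik hjk 1 s one_ne_zero).trans (by congr 1; simp)
    · exact (hb.wt.w3 i j k hij hik hjk 1 (-s⁻¹) one_ne_zero).trans (by congr 1; simp [inv_neg])
  have hc1 := hW c hc
  have h11 := hW 1 one_ne_zero
  have hr := hb.rk j k hjk
  have m := hb.hm j k hjk c (-1) hc (neg_ne_zero.mpr one_ne_zero)
  rw [mul_neg_one] at m
  have w1 := hr.w_eq (-c)
  have w2 := hr.w_eq (-1)
  have e : stW (x i j) (x j i) 1 * stH (x i k) (x k i) c * (stW (x i j) (x j i) 1)⁻¹ =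
      (stW (x i j) (x j i) 1 * stW (x i k) (x k i) c * (stW (x i j) (x j i) 1)⁻¹) *
      (stW (x i j) (x j i) 1 * stW (x i k) (x k i) 1 * (stW (x i j) (x j i) 1)⁻¹)⁻¹ := by
    unfold stH; group
  rw [e, hc1, h11, w1, w2, m]
  group

end Cfsg.Agent.Helper99.SPT2
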