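import Cfsg.Agent.Helper99.Su5C

set_option autoImplicit false

/-!
# `SU_n`: the upper unitriangular subgroup and one element leaving `P_1` generate (helper99)
-/

namespace Cfsg.Agent.Helper99

open Matrix
open Cfsg.Agent.Helper5 (frobQ frobQ_apply frobQ_frobQ)

section SuExit

variable {K : Type*} [Field K] [Fintype K] {q n : ℕ}
variable (hK : Fintype.card K = q ^ 2)

theorem su_exit_act (p : ℕ) [Fact p.Prime] [CharP K p] {i0 : Fin n} {w : Fin n → K} {a : K}
    (hw0 : w i0 = 0) (hE : SuHE hK (Pi.single i0 1) w a) :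
    suAct (suEl hK (Pi.single i0 1) w a) (Pi.single (Fin.rev i0) 1) =
      Pi.single (Fin.rev i0) 1 + w + a • Pi.single i0 1 := by
  rw [suAct_suEl_single hK p hE, Pi.single_eq_same, one_smul, mul_one, suH_single_one_left,
    Fin.rev_rev, hw0, map_zero, zero_smul, sub_zero]

/-- **Generation criterion**: a subgroup of `SU_n` containing the upper unitriangular subgroup
and an element `y` with `(y e_0)_{n-1} ≠ 0` is everything. -/
theorem su_top_of_U (p : ℕ) [Fact p.Prime] [CharP K p] (hn : 3 ≤ n) (h32 : ¬ (n = 3 ∧ q = 2))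
    (H : Subgroup ↥(suG hK n)) (hU : suU hK n ≤ H) (i0 : Fin n) (hi0 : (i0 : ℕ) = 0)
    (y : ↥(suG hK n)) (hy : y ∈ H) (hy' : suAct y (Pi.single i0 1) (Fin.rev i0) ≠ 0) :
    H = ⊤ := by
  have hlt : i0 < Fin.rev i0 := by
    rw [Fin.lt_def, Fin.val_rev, hi0]
    omega
  have h0 : i0 ≠ Fin.rev i0 := ne_of_lt hlt
  have hiso0 : suH hK n (Pi.single i0 (1 : K)) (Pi.single i0 1) = 0 := by
    rw [suH_single_one_right]
    exact Pi.single_eq_of_ne (Ne.symm h0) _
  have hisol : suH hK n (Pi.single (Fin.rev i0) (1 : K)) (Pi.single (Fin.rev i0) 1) = 0 := by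
    rw [suH_single_one_right, Fin.rev_rev]
    exact Pi.single_eq_of_ne h0 _
  have hzero_of : ∀ w : Fin n → K, w i0 = 0 → w (Fin.rev i0) = 0 →
      ∀ i, i ≤ i0 ∨ Fin.rev i0 ≤ i → w i = 0 := by
    intro w hw0 hwl i hi
    rcases hi with hi | hi
    · have h1 : i = i0 := by
        apply Fin.ext
        have h2 := Fin.le_def.1 hi
        omega
      rw [h1]
      exact hw0
    · have h1 : i = Fin.rev i0 := by
        apply Fin.ext
        have h2 := Fin.le_def.1 hi
        rw [Fin.val_rev] at h2 ⊢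
        have h3 := i.2
        omega
      rw [h1]
      exact hwl
  have hC0 : SuTvC hK H (Pi.single i0 1) := by
    intro c hc
    apply hU
    exact suEl_mem_suU hK p hlt (fun i _ => rfl) (su_tvHE hK hiso0 hc)
  have hnorm : ∀ v : Fin n → K, suH hK n v v = 0 → v (Fin.rev i0) ≠ 0 →
      ∃ g ∈ suU hK n, v (Fin.rev i0) • suAct g (Pi.single (Fin.rev i0) 1) = v := by
    intro v hv hl
    obtain ⟨v', hv'⟩ : ∃ v' : Fin n → K, v' = (v (Fin.rev i0))⁻¹ • v := ⟨_, rfl⟩
    have hv'l : v' (Fin.rev i0) = 1 := by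
      rw [hv', Pi.smul_apply, smul_eq_mul, inv_mul_cancel₀ hl]
    have hv'iso : suH hK n v' v' = 0 := by
      rw [hv', suH_smul_left, suH_smul_right, hv, mul_zero, mul_zero]
    obtain ⟨w, hw⟩ : ∃ w : Fin n → K,
        w = v' - v' i0 • Pi.single i0 1 - Pi.single (Fin.rev i0) 1 := ⟨_, rfl⟩
    have hw0 : w i0 = 0 := by
      rw [hw, Pi.sub_apply, Pi.sub_apply, Pi.smul_apply, Pi.single_eq_same,
        Pi.single_eq_of_ne h0, smul_eq_mul, mul_one, sub_self, sub_zero]
    have hwl : w (Fin.rev i0) = 0 := by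
      rw [hw, Pi.sub_apply, Pi.sub_apply, Pi.smul_apply, Pi.single_eq_same,
        Pi.single_eq_of_ne (Ne.symm h0), smul_zero, sub_zero, hv'l, sub_self]
    have hE : SuHE hK (Pi.single i0 1) w (v' i0) := by
      refine suHE_single hK h0 hwl ?_
      have h1 : suH hK n v' (Pi.single i0 1) = 1 := by rw [suH_single_one_right, hv'l]
      have h2 : suH hK n v' (Pi.single (Fin.rev i0) 1) = v' i0 := by
        rw [suH_single_one_right, Fin.rev_rev]
      have h3 : suH hK n (Pi.single i0 1) v' = 1 := by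
        rw [suH_single_one_left, hv'l, map_one]
      have h4 : suH hK n (Pi.single (Fin.rev i0) 1) v' = frobQ hK (v' i0) := by
        rw [suH_single_one_left, Fin.rev_rev]
      have h6 : suH hK n (Pi.single i0 (1 : K)) (Pi.single (Fin.rev i0) 1) = 1 := by
        rw [suH_single_one_right, Fin.rev_rev, Pi.single_eq_same]
      have h7 : suH hK n (Pi.single (Fin.rev i0) (1 : K)) (Pi.single i0 1) = 1 := by
        rw [suH_single_one_right, Pi.single_eq_same]
      rw [hw]
      simp only [suH_sub_left, suH_sub_right, suH_smul_left, suH_smul_right, h1, h2, h3, h4, h6,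
        h7, hiso0, hisol, hv'iso]
      ring
    refine ⟨suEl hK (Pi.single i0 1) w (v' i0),
      suEl_mem_suU hK p hlt (hzero_of w hw0 hwl) hE, ?_⟩
    rw [su_exit_act hK p hw0 hE, hw, hv']
    have h8 : ∀ A B C : Fin n → K, A + (B - C - A) + C = B := by
      intro A B C
      abel
    rw [h8, smul_smul, mul_inv_cancel₀ hl, one_smul]
  have hCl : SuTvC hK H (Pi.single (Fin.rev i0) 1) := by
    obtain ⟨u0, hu0⟩ : ∃ u0, u0 = suAct y (Pi.single i0 1) := ⟨_, rfl⟩
    rw [← hu0] at hy'
    have hu0C : SuTvC hK H u0 := by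
      rw [hu0]
      exact suTvC_act hK p hiso0 hC0 hy
    have hu0iso : suH hK n u0 u0 = 0 := by
      rw [hu0, suH_suAct]
      exact hiso0
    obtain ⟨g, hg, he⟩ := hnorm u0 hu0iso hy'
    have h2 : (u0 (Fin.rev i0))⁻¹ • u0 = suAct g (Pi.single (Fin.rev i0) 1) := by
      rw [inv_smul_eq_iff₀ hy']
      exact he.symm
    have h1 : suAct g⁻¹ ((u0 (Fin.rev i0))⁻¹ • u0) = Pi.single (Fin.rev i0) 1 := by
      rw [h2, suAct_inv_suAct]
    rw [← h1]
    exact suTvC_act hK p (by rw [suH_smul_left, suH_smul_right, hu0iso, mul_zero, mul_zero])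
      (suTvC_smul hK p hu0iso hu0C _) (H.inv_mem (hU hg))
  have hCne : ∀ v : Fin n → K, suH hK n v v = 0 → v (Fin.rev i0) ≠ 0 → SuTvC hK H v := by
    intro v hv hl
    obtain ⟨g, hg, he⟩ := hnorm v hv hl
    rw [← he]
    exact suTvC_smul hK p (by rw [suH_suAct]; exact hisol)
      (suTvC_act hK p hisol hCl (hU hg)) _
  refine su_top_of_tv hK p n hn h32 H (fun v c hv hc => ?_)
  by_cases hl : v (Fin.rev i0) = 0
  swap
  · exact hCne v hv hl c hc
  by_cases hv0 : v = 0
  · rw [hv0]
    have h1 : suEl hK (0 : Fin n → K) 0 c = 1 := by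
      apply su_ext
      intro x
      rw [su_tv_act hK p (suH_zero_left hK 0) hc, smul_zero, add_zero, suAct_one]
    rw [h1]
    exact H.one_mem
  obtain ⟨b, hb, hbl, hvb⟩ : ∃ b : Fin n → K, suH hK n b b = 0 ∧ b (Fin.rev i0) ≠ 0 ∧
      suH hK n v b ≠ 0 := by
    by_cases h00 : v i0 = 0
    · obtain ⟨w1, hw1⟩ : ∃ w1, suH hK n v w1 ≠ 0 := by
        by_contra hcon
        push Not at hcon
        exact hv0 (suH_nondeg hK _ hcon)
      obtain ⟨w, hw⟩ : ∃ w : Fin n → K,
          w = w1 - w1 i0 • Pi.single i0 1 - w1 (Fin.rev i0) • Pi.single (Fin.rev i0) 1 :=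
        ⟨_, rfl⟩
      have hw0 : w i0 = 0 := by
        rw [hw, Pi.sub_apply, Pi.sub_apply, Pi.smul_apply, Pi.smul_apply, Pi.single_eq_same,
          Pi.single_eq_of_ne h0, smul_eq_mul, mul_one, sub_self, smul_zero, sub_zero]
      have hwl : w (Fin.rev i0) = 0 := by
        rw [hw, Pi.sub_apply, Pi.sub_apply, Pi.smul_apply, Pi.smul_apply, Pi.single_eq_same,
          Pi.single_eq_of_ne (Ne.symm h0), smul_zero, sub_zero, smul_eq_mul, mul_one, sub_self]
      obtain ⟨a1, ha1⟩ := su_exists_c hK w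
      have hE : SuHE hK (Pi.single i0 1) w a1 := suHE_single hK h0 hwl ha1
      refine ⟨suAct (suEl hK (Pi.single i0 1) w a1) (Pi.single (Fin.rev i0) 1), ?_, ?_, ?_⟩
      · rw [suH_suAct]
        exact hisol
      · rw [su_exit_act hK p hw0 hE, Pi.add_apply, Pi.add_apply, Pi.smul_apply,
          Pi.single_eq_same, hwl, Pi.single_eq_of_ne (Ne.symm h0), smul_zero, add_zero, add_zero]
        exact one_ne_zero
      · rw [su_exit_act hK p hw0 hE, suH_add_right, suH_add_right, suH_smul_right,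
          suH_single_one_right, suH_single_one_right, Fin.rev_rev, h00, hl, mul_zero, zero_add,
          add_zero, hw, suH_sub_right, suH_sub_right, suH_smul_right, suH_smul_right,
          suH_single_one_right, suH_single_one_right, Fin.rev_rev, h00, hl, mul_zero, mul_zero,
          sub_zero, sub_zero]
        exact hw1
    · refine ⟨Pi.single (Fin.rev i0) 1, hisol, ?_, ?_⟩
      · rw [Pi.single_eq_same]
        exact one_ne_zero
      · rw [suH_single_one_right, Fin.rev_rev]
        exact h00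
  have hbC : SuTvC hK H b := hCne b hb hbl
  obtain ⟨ε, hε0, hε⟩ := Cfsg.Agent.Helper13.ufld_exists_skew hK
  have hTb : suEl hK b 0 ε ∈ H := hbC ε hε
  have ha : suAct (suEl hK b 0 ε) v = v + (ε * suH hK n v b) • b := su_tv_act hK p hb hε v
  have ha4 : suAct (suEl hK b 0 ε) v (Fin.rev i0) ≠ 0 := by
    rw [ha, Pi.add_apply, Pi.smul_apply, hl, zero_add, smul_eq_mul]
    exact mul_ne_zero (mul_ne_zero hε0 hvb) hbl
  have haC : SuTvC hK H (suAct (suEl hK b 0 ε) v) :=
    hCne _ (by rw [suH_suAct]; exact hv) ha4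
  have h9 := suTvC_act hK p (by rw [suH_suAct]; exact hv) haC (H.inv_mem hTb)
  rw [suAct_inv_suAct] at h9
  exact h9 c hc

end SuExit

end Cfsg.Agent.Helper99
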