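import Mathlib
import Cfsg.Prelude.Def_GeometricClasses
import Cfsg.Prelude.Def_Classical

/-!
# helper99: CALL S5981 piece COMB5 (`comb_five`, double): five residues mod 5 with sum zero can
be arranged as `c, c + s₁, c - s₁, c + s₂, c - s₂`.
-/

set_option autoImplicit false
open Matrix Polynomial

namespace Cfsg.Agent.Helper99.THCOMB5

/-- The fifteen arrangements (a centre and a pairing of the other four indices). -/
def cfList : List (Fin 5 → Fin 5) :=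
  [![0, 1, 2, 3, 4], ![0, 1, 3, 2, 4], ![0, 1, 4, 2, 3],
   ![1, 0, 2, 3, 4], ![1, 0, 3, 2, 4], ![1, 0, 4, 2, 3],
   ![2, 0, 1, 3, 4], ![2, 0, 3, 1, 4], ![2, 0, 4, 1, 3],
   ![3, 0, 1, 2, 4], ![3, 0, 2, 1, 4], ![3, 0, 4, 1, 2],
   ![4, 0, 1, 2, 3], ![4, 0, 2, 1, 3], ![4, 0, 3, 1, 2]]

theorem cf_bij : ∀ f ∈ cfList, Function.Bijective f := by decide +kernel

theorem cf_aux : ∀ a0 a1 a2 a3 : ZMod 5, ∃ f ∈ cfList,
    (![a0, a1, a2, a3, -(a0 + a1 + a2 + a3)] (f 1) + ![a0, a1, a2, a3, -(a0 + a1 + a2 + a3)] (f 2)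
        = 2 * ![a0, a1, a2, a3, -(a0 + a1 + a2 + a3)] (f 0)) ∧
    (![a0, a1, a2, a3, -(a0 + a1 + a2 + a3)] (f 3) + ![a0, a1, a2, a3, -(a0 + a1 + a2 + a3)] (f 4)
        = 2 * ![a0, a1, a2, a3, -(a0 + a1 + a2 + a3)] (f 0)) := by
  decide +kernel

/-- COMB5 -/
theorem comb_five (a : Fin 5 → ZMod 5) (h : ∑ i, a i = 0) :
    ∃ σ : Equiv.Perm (Fin 5), a (σ 1) + a (σ 2) = 2 * a (σ 0) ∧ a (σ 3) + a (σ 4) = 2 * a (σ 0) := by
  have h4 : a 4 = -(a 0 + a 1 + a 2 + a 3) := by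
    rw [Fin.sum_univ_five] at h
    exact eq_neg_of_add_eq_zero_right h
  have ha : a = ![a 0, a 1, a 2, a 3, -(a 0 + a 1 + a 2 + a 3)] := by
    funext i
    fin_cases i
    · rfl
    · rfl
    · rfl
    · rfl
    · exact h4
  obtain ⟨f, hf, h1, h2⟩ := cf_aux (a 0) (a 1) (a 2) (a 3)
  rw [← ha] at h1 h2
  exact ⟨Equiv.ofBijective f (cf_bij f hf), h1, h2⟩

end Cfsg.Agent.Helper99.THCOMB5
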